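import Groth.Agent.EtDepth.K584.PtBd

/-!
# The bound off the closed point of `Spec K[[x_1, …, x_(M + 1)]]`

From `BidSP m c`, `c ≤ M`: for `F` constructible on `T = Spec K[[x_1, …, x_(M + 1)]]`, the sheaf `H^q (D F)` is zero off
the closed point for `q > 2M`.
-/

set_option autoImplicit false
universe u

open CategoryTheory CategoryTheory.Limits AlgebraicGeometry Opposite IsLocalRing

attribute [local instance 5000] CategoryTheory.Abelian.toPreadditive
  CategoryTheory.Preadditive.preadditiveHasZeroMorphisms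

namespace K584.AlgBd

attribute [local instance] HasDerivedCategory.standard
attribute [-instance] ULift.ring
open scoped Groth.Agent.Sga4h.ModInst
open Groth.Agent Groth.Agent.Sga4h Groth.Agent.Sga4h.Refl DerivedCategory
open Groth.Agent.Sga4h.BidIndLoc48 Groth.Agent.Sga4h.BidRed538Main
open Groth.Agent.Etdl.H434.Defs Groth.Agent.Etrest.ModAb K973.Stmt K973.BidStmt

/-- The local rings off the closed point. -/
theorem exists_dim (M : ℕ) (K : Type u) [Field K] (x : SP (M + 1) K)
    (hx : x ≠ closedPoint (MvPowerSeries (Fin (M + 1)) K)) :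
    ∃ c : ℕ, ringKrullDim ((SP (M + 1) K).presheaf.stalk x) = c ∧ c ≤ M := by
  have hreg := Groth.Agent.CalgB.PowField.isRegularLocalRing (K := K) (d := M + 1)
  have hN : IsNoetherianRing (MvPowerSeries (Fin (M + 1)) K) := inferInstance
  have hp : (PrimeSpectrum.asIdeal (R := MvPowerSeries (Fin (M + 1)) K) x).IsPrime := PrimeSpectrum.isPrime _
  obtain ⟨c, hc⟩ : ∃ c : ℕ, (PrimeSpectrum.asIdeal (R := MvPowerSeries (Fin (M + 1)) K) x).height = c :=
    ⟨_, (ENat.natCast_toNat (Ideal.height_ne_top hp.ne_top)).symm⟩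
  refine ⟨c, ?_, ?_⟩
  · rw [Groth.Agent.Sga4h.DivEq.ringKrullDim_stalk,
      IsLocalization.AtPrime.ringKrullDim_eq_height (PrimeSpectrum.asIdeal (R := MvPowerSeries (Fin (M + 1)) K) x), hc]
    rfl
  · have h1 : PrimeSpectrum.asIdeal (R := MvPowerSeries (Fin (M + 1)) K) x <
        maximalIdeal (MvPowerSeries (Fin (M + 1)) K) :=
      lt_of_le_of_ne (le_maximalIdeal hp.ne_top) fun h => hx (PrimeSpectrum.ext h)
    have h2 := Ideal.height_strict_mono_of_isPrime_of_isPrime h1
    have h3 := maximalIdeal_height_eq_ringKrullDim (R := MvPowerSeries (Fin (M + 1)) K)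
    rw [Groth.Agent.CalgB.PowField.ringKrullDim_eq] at h3
    have h4 : (maximalIdeal (MvPowerSeries (Fin (M + 1)) K)).height = ((M + 1 : ℕ) : ℕ∞) := by exact_mod_cast h3
    rw [h4, hc] at h2
    have h5 : c < M + 1 := by exact_mod_cast h2
    omega

/-- **The bound off the closed point**, stalks. -/
theorem isZero_stk {m : ℕ} (hm : 0 < m) (M : ℕ) (K : Type u) [Field K] [CharZero K]
    (hB : ∀ c ≤ M, BidSP.{u} m c) (F : EtModW.Mod (Lam.{u} m) (SP (M + 1) K))
    (hF : EtModW.IsConstructible (Lam.{u} m) F) (x : SP (M + 1) K)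
    (hx : x ≠ closedPoint (MvPowerSeries (Fin (M + 1)) K)) (q : ℤ) (hq : 2 * (M : ℤ) < q) :
    IsZero ((EtPts.stk (Lam.{u} m) x).obj
      (((stdDual (Lam.{u} m) (SP (M + 1) K)).D ((CochainComplex.singleFunctor _ 0).obj F)).homology q)) := by
  obtain ⟨c, hc, hcM⟩ := exists_dim M K x hx
  exact PtBd.main (𝟙 (SP (M + 1) K)) hm x c hc (hB c hcM) F hF 0
    (fun R _ _ _ _ _ p hp => absurd hp (Nat.not_lt_zero p)) q (by push_cast; omega)

/-- **The bound off the closed point**, inverse images. -/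
theorem isZero_pull {m : ℕ} (hm : 0 < m) (M : ℕ) (K : Type u) [Field K] [CharZero K]
    (hB : ∀ c ≤ M, BidSP.{u} m c) (F : EtModW.Mod (Lam.{u} m) (SP (M + 1) K))
    (hF : EtModW.IsConstructible (Lam.{u} m) F) {T' : Scheme.{u}} (g : T' ⟶ SP (M + 1) K)
    (hg : ∀ y : T', g y ≠ closedPoint (MvPowerSeries (Fin (M + 1)) K)) (q : ℤ) (hq : 2 * (M : ℤ) < q) :
    IsZero ((EtModW.pull (Lam.{u} m) g).obj
      (((stdDual (Lam.{u} m) (SP (M + 1) K)).D ((CochainComplex.singleFunctor _ 0).obj F)).homology q)) := by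
  refine PtTools.isZero_of_stk _ fun y => ?_
  rw [PtTools.isZero_stk_pull_iff]
  exact isZero_stk hm M K hB F hF (g y) (hg y) q hq

end K584.AlgBd
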