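import Groth.Agent.EtDepth.K584.LDAbs
import Groth.Agent.EtDual.K336.GlobBase
import Groth.Agent.Sga2lef.H88.LocDualSky

/-!
# Local duality on a strictly local scheme: the vanishing of the cohomology of the dual at the closed point
-/

set_option autoImplicit false
set_option linter.unusedSectionVars false
universe w' u

open CategoryTheory CategoryTheory.Limits AlgebraicGeometry Opposite

attribute [local instance 5000] CategoryTheory.Abelian.toPreadditive
  CategoryTheory.Preadditive.preadditiveHasZeroMorphisms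

namespace K584.LDLoc

attribute [local instance] HasDerivedCategory.standard
open scoped Groth.Agent.Sga4h.ModInst
open Groth.Agent Groth.Agent.Sga4h Groth.Agent.Sga4h.Refl DerivedCategory
open Groth.Agent.Sga4h.BidIndD48 Groth.Agent.Sga4h.BidIndLoc48 Groth.Agent.Sga4h.BidLoc48
open Groth.Agent.Sga4h.BidRed538Main Groth.Agent.EtDual.K336.StrictS Groth.Agent.EtDual.K336.StrictAbs
open Groth.Agent.EtDual.K336.GlobS

attribute [-instance] ULift.ring

variable {A : Type u} [CommRing A] [HenselianLocalRing A]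

section Gen

variable (Λ : Type (u + 1)) [CommRing Λ] [IsNoetherianRing Λ]

/-- `Hom(H^b (D F), ip_* Λ) = 0` for `b > c - depth F`, general coefficients. -/
theorem subsingleton_hom_gen [HasExt.{w'} (EtModW.Mod Λ (Spec (CommRingCat.of A)))] (n : ℕ) {c : ℤ}
    [Injective (PP A Λ)] [Projective (EtModW.constMod Λ (Spec (CommRingCat.of A)) Λ)]
    (hP : ∀ F : EtModW.Mod Λ (Spec (CommRingCat.of A)), Nonempty ((F ⟶ PP A Λ) ≃+
      ((EtModW.constMod Λ (Spec (CommRingCat.of A)) Λ ⟶ F) →+ ZMod n)))
    (hB : Bid (stdDual Λ (Spec (CommRingCat.of A))))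
    (hc : Nonempty (Q.obj ((stdDual Λ (Spec (CommRingCat.of A))).D
      ((CochainComplex.singleFunctor _ 0).obj (PP A Λ))) ≅
        (Q.obj ((CochainComplex.singleFunctor _ 0).obj (PP A Λ)))⟦-c⟧))
    (F : EtModW.Mod Λ (Spec (CommRingCat.of A))) (hF : EtModW.IsConstructible Λ F) (k : ℕ)
    (h : ∀ i : ℕ, i < k → Subsingleton (Abelian.Ext.{w'} (PP A Λ) F i)) (b : ℤ) (hb : c - b < k) :
    Subsingleton (((stdDual Λ (Spec (CommRingCat.of A))).D
      ((CochainComplex.singleFunctor _ 0).obj F)).homology b ⟶ PP A Λ) :=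
  LDAbs.subsingleton_hom (stdDual Λ (Spec (CommRingCat.of A))) hP hc ((CochainComplex.singleFunctor _ 0).obj F)
    (hB.refl ((CochainComplex.singleFunctor _ 0).obj F) (EtDual.K336.GenD.isDbc_single F hF)) b
    (LDAbs.subsingleton_single (PP A Λ) F k h (c - b) hb)

end Gen

variable [IsSepClosed (IsLocalRing.ResidueField A)] {n : ℕ} [NeZero n] {c : ℤ}

/-- `H^b (D F)` vanishes at the closed point for `b > c - depth F`. -/
theorem isZero_pull [HasExt.{w'} (EtModW.Mod (Lam.{u} n) (Spec (CommRingCat.of A)))] (B : BaseData A n c)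
    (F : EtModW.Mod (Lam.{u} n) (Spec (CommRingCat.of A))) (hF : EtModW.IsConstructible (Lam.{u} n) F) (k : ℕ)
    (h : ∀ i : ℕ, i < k → Subsingleton (Abelian.Ext.{w'} (PP A (Lam.{u} n)) F i)) (b : ℤ) (hb : c - b < k) :
    IsZero ((EtModW.pull (Lam.{u} n) (ip A)).obj
      (((stdDual (Lam.{u} n) (Spec (CommRingCat.of A))).D
        ((CochainComplex.singleFunctor _ 0).obj F)).homology b)) := by
  have := ModPoint.injective_zmod.{u} n (NeZero.pos n)
  have h2 := subsingleton_hom_gen.{w'} (Lam.{u} n) n nonempty_homPP' B.bid B.dP F hF k h b hb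
  exact Groth.Agent.Sga2lef.H88.LocDualSky.isZero_pull_of_hom n (ip A) (NeZero.pos n) _
    fun f => Subsingleton.elim _ _

end K584.LDLoc
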