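import Groth.Agent.EtDepth.K584.PtExtP
import Groth.Agent.EtDepth.K584.LDLoc
import Groth.Agent.EtDual.K336.SPg

/-!
# The bound at the closed point of `Spec K[[x_1, …, x_c]]`

Biduality on `Spec K[[x_1, …, x_c]]` implies: `H^b (D F)` vanishes at the closed point for `b > 2c - k` if the étale depth
of the constructible sheaf `F` along the closed point is at least `k`.
-/

set_option autoImplicit false
universe u

open CategoryTheory CategoryTheory.Limits AlgebraicGeometry Opposite

attribute [local instance 5000] CategoryTheory.Abelian.toPreadditive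
  CategoryTheory.Preadditive.preadditiveHasZeroMorphisms

namespace K584.PtSP

attribute [local instance] HasDerivedCategory.standard
attribute [-instance] ULift.ring
open scoped Groth.Agent.Sga4h.ModInst
open Groth.Agent Groth.Agent.Sga4h Groth.Agent.Sga4h.Refl DerivedCategory
open Groth.Agent.Sga4h.BidIndLoc48 Groth.Agent.Sga4h.BidRed538Main Groth.Agent.EtDual.K336.StrictS
open Groth.Agent.EtDual.K336.GlobS Groth.Agent.EtDual.K336.SPg Groth.Agent.Etdl.H434.Defs Groth.Agent.Etrest.ModAb

/-- The complement of the closed point. -/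
theorem range_punct (A : Type u) [CommRing A] [HenselianLocalRing A] [IsSepClosed (IsLocalRing.ResidueField A)] :
    Set.range (FEt.puncturedSpec A).ι = (Set.range (ip A))ᶜ := by
  ext x
  rw [Groth.Agent.Sga2lef.H134.DepthAt.mem_range_punct, range_ip]
  rfl

/-- `ξ⁻¹ H^b (D F) = 0`. -/
structure VanPull (Λ : Type (u + 1)) [CommRing Λ] {Z S : Scheme.{u}} (ξ : Z ⟶ S) (F : EtModW.Mod Λ S) (b : ℤ) :
    Prop where
  out : IsZero ((EtModW.pull Λ ξ).obj (((stdDual Λ S).D ((CochainComplex.singleFunctor _ 0).obj F)).homology b))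

theorem vanPull (m : ℕ) [NeZero m] (c : ℕ) (K : Type u) [Field K] [IsAlgClosed K] [CharZero K]
    (hB : Bid (stdDual (Lam.{u} m) (SP c K)))
    (F : EtModW.Mod (Lam.{u} m) (Spec (CommRingCat.of (MvPowerSeries (Fin c) K))))
    (hF : EtModW.IsConstructible (Lam.{u} m) F) (k : ℕ)
    (h : ∀ i : ℕ, i < k → IsZero ((EtDual.locCoh (FEt.puncturedSpec (MvPowerSeries (Fin c) K)).ι i).obj
      ((ab (Lam.{u} m) (Spec (CommRingCat.of (MvPowerSeries (Fin c) K)))).obj F))) (b : ℤ)
    (hb : 2 * (c : ℤ) - b < k) :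
    VanPull (Lam.{u} m) (ip (MvPowerSeries (Fin c) K)) F b := by
  have := isClosedImmersion_ip (A := MvPowerSeries (Fin c) K)
  refine ⟨LDLoc.isZero_pull.{u + 1} (baseData m c K hB) F hF k (fun i hi => ?_) b hb⟩
  refine PtExtP.subsingleton_ext (FEt.puncturedSpec (MvPowerSeries (Fin c) K)).ι
    (ip (MvPowerSeries (Fin c) K)) (range_punct _) _ nonempty_P' F i ?_
  refine DepthHull.isZero_HY (ip (MvPowerSeries (Fin c) K)) _ ?_ _ i (h i hi)
  rw [range_punct]
  exact isCompl_compl

end K584.PtSP
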