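import Groth.Agent.EtDepth.K584.Step
import Groth.Agent.EtDepth.K973.Stmt
import Mathlib.AlgebraicGeometry.AffineSpace

/-!
# NODE ART: Artin vanishing on the affine spaces over an excellent strictly henselian local ring of
characteristic zero

* `vanSch_affineSpace`: for all torsion sheaves `F` on `𝔸(Fin N; Spec A)`: `H^q(F) = 0` for `q > δ(supp F)`.
* `main`: the interface form `K973.Stmt.NodeArt`.
-/

set_option autoImplicit false
universe u
open CategoryTheory CategoryTheory.Limits AlgebraicGeometry Opposite IsLocalRing TopologicalSpace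

namespace K584.EtArt

open Groth.Agent Groth.Agent.CycB.TrdegAlg Groth.Agent.EtpbcA.Artin
  K584.Del K584.Pt K584.Line K584.Step Groth.Agent.Etbc.H215

theorem isTorsion_of_killedBy {X : Scheme.{u}} {m : ℕ} (hm : 0 < m) {F : EtCoh.Ab X}
    (h : EtCoh.KilledBy m F) : EtCoh.IsTorsion F := by
  intro U s x
  refine ⟨U, 𝟙 U, ⟨x, rfl⟩, ?_⟩
  rw [isOfFinAddOrder_iff_nsmul_eq_zero]
  exact ⟨m, hm, h U _⟩

theorem specIso_hom_comp (A : Type u) [CommRing A] (N : ℕ) :
    (AffineSpace.SpecIso (ULift.{u} (Fin N)) (CommRingCat.of A)).hom ≫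
      Spec.map (CommRingCat.ofHom (MvPolynomial.C : A →+* MvPolynomial (ULift.{u} (Fin N)) A)) =
      (𝔸(ULift.{u} (Fin N); Spec (CommRingCat.of A)) ↘ Spec (CommRingCat.of A)) := by
  have h : (AffineSpace.SpecIso (ULift.{u} (Fin N)) (CommRingCat.of A)).inv ≫
      (𝔸(ULift.{u} (Fin N); Spec (CommRingCat.of A)) ↘ Spec (CommRingCat.of A)) =
      Spec.map (CommRingCat.ofHom (MvPolynomial.C : A →+* MvPolynomial (ULift.{u} (Fin N)) A)) :=
    AffineSpace.SpecIso_inv_over (CommRingCat.of A)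
  rw [← h, Iso.hom_inv_id_assoc]

/-- **Artin vanishing on `𝔸(Fin N; Spec A)`**, for all torsion sheaves. -/
theorem vanSch_affineSpace (A : Type u) [CommRing A] [HenselianLocalRing A] [IsSepClosed (ResidueField A)]
    [Algebra ℚ A] (hA : EGA4.IsExcellent A) (N : ℕ) :
    VanSch (𝔸(ULift.{u} (Fin N); Spec (CommRingCat.of A)) ↘ Spec (CommRingCat.of A)) := by
  have h1 := VanSch.of_ringEquiv (MvPolynomial.renameEquiv A (Equiv.ulift.{u} (α := Fin N)).symm).toRingEquiv
    (mvPolynomial A hA N)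
  have h2 : (MvPolynomial.renameEquiv A (Equiv.ulift.{u} (α := Fin N)).symm).toRingEquiv.toRingHom.comp
      (MvPolynomial.C : A →+* MvPolynomial (Fin N) A) =
      (MvPolynomial.C : A →+* MvPolynomial (ULift.{u} (Fin N)) A) := by
    ext1 a
    exact (MvPolynomial.renameEquiv A (Equiv.ulift.{u} (α := Fin N)).symm).commutes a
  rw [h2] at h1
  have h3 := VanSch.of_iso (AffineSpace.SpecIso (ULift.{u} (Fin N)) (CommRingCat.of A)).hom h1
  rw [specIso_hom_comp A N] at h3
  exact h3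

/-- Finiteness of the dimension function. -/
theorem exists_ptLE_Spec {A B : Type u} [CommRing A] [IsNoetherianRing A] [IsLocalRing A] [CommRing B]
    (g : A →+* B) (hg : g.FiniteType) (t : Spec (CommRingCat.of B)) :
    ∃ e : ℕ, PtLE (Spec.map (CommRingCat.ofHom g)) t e := by
  have hp₀ : (RingHom.ker ((Ideal.Quotient.mk (PrimeSpectrum.asIdeal (R := B) t)).comp g)).IsPrime :=
    RingHom.ker_isPrime _
  have hloc₀ : IsLocalRing (A ⧸ RingHom.ker ((Ideal.Quotient.mk (PrimeSpectrum.asIdeal (R := B) t)).comp g)) :=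
    IsLocalRing.of_surjective' (Ideal.Quotient.mk _) Ideal.Quotient.mk_surjective
  obtain ⟨a₀, ha₀⟩ := exists_nat_of_ringKrullDim
    (A ⧸ RingHom.ker ((Ideal.Quotient.mk (PrimeSpectrum.asIdeal (R := B) t)).comp g))
  obtain ⟨b₀, hb₀⟩ := Cardinal.lt_aleph0.1
    (tr_lt_aleph0 g hg (Ideal.Quotient.mk (PrimeSpectrum.asIdeal (R := B) t)) Ideal.Quotient.mk_surjective)
  exact ⟨a₀ + b₀, (ptLE_Spec_iff g t _).2 ⟨a₀, b₀, le_rfl, ha₀.le, hb₀.le⟩⟩

theorem exists_ptLE (A : Type u) [CommRing A] [IsNoetherianRing A] [IsLocalRing A] (N : ℕ)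
    (v : 𝔸(ULift.{u} (Fin N); Spec (CommRingCat.of A))) :
    ∃ e : ℕ, PtLE (𝔸(ULift.{u} (Fin N); Spec (CommRingCat.of A)) ↘ Spec (CommRingCat.of A)) v e := by
  obtain ⟨e, he⟩ := exists_ptLE_Spec (MvPolynomial.C : A →+* MvPolynomial (ULift.{u} (Fin N)) A)
    (RingHom.finiteType_algebraMap.2
      (inferInstanceAs (Algebra.FiniteType A (MvPolynomial (ULift.{u} (Fin N)) A))))
    ((AffineSpace.SpecIso (ULift.{u} (Fin N)) (CommRingCat.of A)).hom v)
  refine ⟨e, ?_⟩
  rw [← ptLE_comp_iff _ _ v (algAt_of_surjectiveOnStalks _ v)] at he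
  rw [specIso_hom_comp A N] at he
  exact he

/-- The dimension function in terms of `dim (A / p)` and `trdeg (κ(x) / κ(f x))`. -/
theorem ptLE_of_forall {A : Type u} [CommRing A] [IsNoetherianRing A] [IsLocalRing A] {X : Scheme.{u}}
    (f : X ⟶ Spec (CommRingCat.of A)) (x : X) (hfin : ∃ e : ℕ, PtLE f x e) (D : ℕ)
    (h : ∀ a b : ℕ, ringKrullDim (A ⧸ PrimeSpectrum.asIdeal (R := A) (f x)) = a →
      trd (f.residueFieldMap x).hom = b → a + b ≤ D) : PtLE f x D := by
  obtain ⟨e, he⟩ := hfin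
  obtain ⟨σ, hσ, hgen, hker⟩ := TrdegSH.exists_residue A (f x)
  have hφ : Spec.map (CommRingCat.ofHom ((f.residueFieldMap x).hom.comp σ)) =
      X.fromSpecResidueField x ≫ f := by
    rw [CommRingCat.ofHom_comp, Spec.map_comp, hσ, CommRingCat.ofHom_hom]
    exact Scheme.Hom.SpecMap_residueFieldMap_fromSpecResidueField _ _
  rw [ptLE_iff f x _ _ hφ] at he
  have h1 : tr ((f.residueFieldMap x).hom.comp σ) = trd (f.residueFieldMap x).hom := by
    rw [tr_comp_of_injective σ _ (RingHom.injective _)]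
    have h2 : tr σ = 0 := hgen.trd_kerLift
    rw [h2, zero_add]
  have hk : RingHom.ker ((f.residueFieldMap x).hom.comp σ) = PrimeSpectrum.asIdeal (R := A) (f x) := by
    rw [ker_comp_inj _ _ (RingHom.injective _), hker]
  obtain ⟨a, b, -, -, hb⟩ := he
  rw [h1] at hb
  obtain ⟨b', hb'⟩ := Cardinal.lt_aleph0.1 (hb.trans_lt Cardinal.natCast_lt_aleph0)
  have hprime : (PrimeSpectrum.asIdeal (R := A) (f x)).IsPrime := PrimeSpectrum.isPrime _
  have hloc : IsLocalRing (A ⧸ PrimeSpectrum.asIdeal (R := A) (f x)) :=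
    IsLocalRing.of_surjective' (Ideal.Quotient.mk _) Ideal.Quotient.mk_surjective
  obtain ⟨a', ha'⟩ := exists_nat_of_ringKrullDim (A ⧸ PrimeSpectrum.asIdeal (R := A) (f x))
  rw [ptLE_iff f x _ _ hφ]
  refine ⟨a', b', h a' b' ha' hb', ?_, ?_⟩
  · rw [hk]
    exact ha'.le
  · rw [h1]
    exact hb'.le

/-- **NODE ART.** -/
theorem main : K973.Stmt.NodeArt.{u} := by
  intro A _ _ _ _ _ _ hA N m hm F hF _ D hD q hq
  refine vanSch_affineSpace A hA N F (isTorsion_of_killedBy hm hF) D (fun v hv => ?_) q hq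
  refine ptLE_of_forall _ v (exists_ptLE A N v) D fun a b ha hb => ?_
  exact hD v hv a b ha hb

end K584.EtArt
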