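import Groth.Agent.EtDepth.K584.PtTools
import Groth.Agent.Sga4h.DbcDual323
import Groth.Agent.Sga4h.Dbc323

/-!
# Biduality from hulls

`bid_of_loc`: biduality on `X` if the cohomology sheaves of the duals of the constructible sheaves are constructible and
vanish outside `[0, B]`, and every point of `X` is in the image of a morphism `g : Y ⟶ X` with biduality on `Y` and
`Loc` along `g`.
-/

set_option autoImplicit false
universe v v' u u' u₁ u₂

open CategoryTheory CategoryTheory.Limits AlgebraicGeometry Opposite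

attribute [local instance 5000] CategoryTheory.Abelian.toPreadditive
  CategoryTheory.Preadditive.preadditiveHasZeroMorphisms

namespace K584.BidHull

open Groth.Agent Groth.Agent.Sga4h Groth.Agent.Sga4h.Refl DerivedCategory

section Abs

variable {C : Type u₁} [Category.{v} C] [Abelian C]

theorem isIso_of_isZero {M N : C} (f : M ⟶ N) (h1 : IsZero (kernel f)) (h2 : IsZero (cokernel f)) : IsIso f := by
  have : Mono f := Preadditive.mono_of_kernel_zero (h1.eq_of_src _ _)
  have : Epi f := Preadditive.epi_of_cokernel_zero (h2.eq_of_tgt _ _)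
  exact isIso_of_mono_of_epi f

variable {C' : Type u₂} [Category.{v'} C'] [Abelian C']

theorem isZero_map_kernel (G : C ⥤ C') [G.Additive] [PreservesFiniteLimits G] {M N : C} (f : M ⟶ N)
    [IsIso (G.map f)] : IsZero (G.obj (kernel f)) :=
  IsZero.of_iso (isZero_kernel_of_mono (G.map f)) (PreservesKernel.iso G f)

theorem isZero_map_cokernel (G : C ⥤ C') [G.Additive] [PreservesFiniteColimits G] {M N : C} (f : M ⟶ N)
    [IsIso (G.map f)] : IsZero (G.obj (cokernel f)) :=
  IsZero.of_iso (isZero_cokernel_of_epi (G.map f)) (PreservesCokernel.iso G f)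

end Abs

attribute [local instance] HasDerivedCategory.standard
open scoped Groth.Agent.Sga4h.ModInst
open Groth.Agent.Sga4h.BidIndLoc48 Groth.Agent.Sga4h.BidLoc48 Groth.Agent.Sga4h.EtPts Groth.Agent.Etrest.ModAb

variable {Λ : Type (u + 1)} [CommRing Λ] {X : Scheme.{u}}

/-- Isomorphisms can be tested on a jointly surjective family of pullbacks. -/
theorem isIso_of_pull {M N : EtModW.Mod Λ X} (f : M ⟶ N)
    (h : ∀ x : X, ∃ (Y : Scheme.{u}) (g : Y ⟶ X) (y : Y), g y = x ∧ IsIso ((EtModW.pull Λ g).map f)) : IsIso f := by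
  refine isIso_of_isZero f (PtTools.isZero_of_stk _ fun x => ?_) (PtTools.isZero_of_stk _ fun x => ?_)
  · obtain ⟨Y, g, y, hy, hf⟩ := h x
    exact PtTools.isZero_stk_of_pull g y x hy _ (isZero_map_kernel (EtModW.pull Λ g) f)
  · obtain ⟨Y, g, y, hy, hf⟩ := h x
    exact PtTools.isZero_stk_of_pull g y x hy _ (isZero_map_cokernel (EtModW.pull Λ g) f)

/-- **Biduality from hulls.** -/
theorem bid_of_loc [IsNoetherianRing Λ] (A : DualData (EtModD.tensorBi Λ X)) (B : ℤ)
    (hc : ∀ F : EtModW.Mod Λ X, EtModW.IsConstructible Λ F → ∀ q : ℤ,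
      EtModW.IsConstructible Λ ((A.D ((CochainComplex.singleFunctor (EtModW.Mod Λ X) 0).obj F)).homology q))
    (hge : ∀ F : EtModW.Mod Λ X, EtModW.IsConstructible Λ F → ∀ q : ℤ, q < 0 →
      IsZero ((A.D ((CochainComplex.singleFunctor (EtModW.Mod Λ X) 0).obj F)).homology q))
    (hle : ∀ F : EtModW.Mod Λ X, EtModW.IsConstructible Λ F → ∀ q : ℤ, B < q →
      IsZero ((A.D ((CochainComplex.singleFunctor (EtModW.Mod Λ X) 0).obj F)).homology q))
    (h : ∀ x : X, ∃ (Y : Scheme.{u}) (g : Y ⟶ X) (y : Y) (A' : DualData (EtModD.tensorBi Λ Y)),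
      g y = x ∧ Loc A A' g ∧ Bid A') : Bid A := by
  have hD : ∀ K : CochainComplex (EtModW.Mod Λ X) ℤ, EtModD.IsDbc (Q.obj K) → EtModD.IsDbc (Q.obj (A.D K)) := by
    refine DbcDual323.isDbc_D A fun F hF => ?_
    rw [Dbc323.isDbc_Q_iff]
    refine ⟨⟨0, B, ?_, ?_⟩, hc F hF⟩
    · rw [CochainComplex.isGE_iff]
      intro i hi
      rw [HomologicalComplex.exactAt_iff_isZero_homology]
      exact hge F hF i hi
    · rw [CochainComplex.isLE_iff]
      intro i hi
      rw [HomologicalComplex.exactAt_iff_isZero_homology]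
      exact hle F hF i hi
  refine ⟨hD, fun K hK => ⟨?_⟩⟩
  rw [quasiIso_iff]
  intro q
  rw [quasiIsoAt_iff_isIso_homologyMap]
  refine isIso_of_pull _ fun x => ?_
  obtain ⟨Y, g, y, A', hy, hl, hB⟩ := h x
  exact ⟨Y, g, y, hy, hl.loc₂ hB K hK (hD K hK) q⟩

end K584.BidHull
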