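import Groth.Agent.Sga4h.BidCmp538
import Groth.Agent.Sga4h.BidGlobU
import Groth.Agent.Sga4h.LamPres857
import Groth.Agent.Etrest.RDer1

/-!
# Cohomology of the dual, abstract part

* `nonempty_homology_iso`: cohomology of `G J`, `J` an injective resolution;
* `nonempty_rep`: `H^q (D B) ≅ R^q P (R I)` if `Hom(B, -) ≅ P R`;
* `isZero_neg`: `H^q (D B) = 0` for `q < 0`;
* `prop_homology_D`: dimension shifting.
-/

set_option autoImplicit false

universe v v' u₁ u₂ w

open CategoryTheory CategoryTheory.Limits Opposite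

namespace K584.DAbs

open Groth.Agent Groth.Agent.Sga4h Groth.Agent.Sga4h.Refl DerivedCategory Groth.Agent.Sga4h.BidLimSingle

section Inj

variable {A : Type u₁} [Category.{v} A] [Abelian A] [EnoughInjectives A] {B : Type u₂} [Category.{v'} B] [Abelian B]
  (G : A ⥤ B) [G.Additive]

/-- The cohomology of `G J` for a bounded below injective resolution `J` of `M`. -/
theorem nonempty_homology_iso [PreservesFiniteLimits G] {M : A} {J : CochainComplex A ℤ} [J.IsStrictlyGE 0]
    (hJ : ∀ n, Injective (J.X n)) (i : (CochainComplex.singleFunctor A 0).obj M ⟶ J) [QuasiIso i] (n : ℕ) :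
    Nonempty (((G.mapHomologicalComplex (.up ℤ)).obj J).homology n ≅ (G.rightDerived n).obj M) := by
  have hk : J.IsKInjective := CochainComplex.isKInjective_of_injective J 0
  let R := injectiveResolution M
  obtain ⟨α, hα⟩ := BidEtCmp.exists_quasiIso_of_resolution R.ι' i
  have h1 : QuasiIso ((G.mapHomologicalComplex (.up ℤ)).map α) := by
    refine Etrest.RDer2.quasiIso_map G α 0 0 (fun i => ?_) (fun i => ?_)
    · have : Injective (R.cochainComplex.X i) := inferInstance
      exact Etrest.RDer2.isAcyc_of_injective G _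
    · have := hJ i
      exact Etrest.RDer2.isAcyc_of_injective G _
  exact ⟨(asIso (HomologicalComplex.homologyMap ((G.mapHomologicalComplex (.up ℤ)).map α) (n : ℤ))).symm ≪≫
    (HomologicalComplex.homologyFunctor B (.up ℤ) (n : ℤ)).mapIso
      (Etrest.RDer1.mapExtendIso ComplexShape.embeddingUpNat G R.cocomplex) ≪≫
    (((G.mapHomologicalComplex _).obj R.cocomplex).extendHomologyIso ComplexShape.embeddingUpNat
      (j := n) (j' := (n : ℤ)) rfl) ≪≫ (R.isoRightDerivedObj G n).symm⟩

end Inj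

section Dual

variable {C : Type u₁} [Category.{v} C] [Abelian C] {T : C ⥤ C ⥤ C} [T.Additive] [∀ X, (T.obj X).Additive]
  [∀ (K₁ K₂ : CochainComplex C ℤ), CochainComplex.HasMapBifunctor K₁ K₂ T]
  [∀ E : CochainComplex C ℤ, (T.map₂CochainComplex.flip.obj E).IsLeftAdjoint]

/-- `D (B[0]) ≅ Hom(B, J)`. -/
theorem nonempty_D_single (A : DualData T) {B : C} {R : C ⥤ C} [R.Additive] (adj : T.flip.obj B ⊣ R) :
    Nonempty (A.D ((CochainComplex.singleFunctor C 0).obj B) ≅
      (R.mapHomologicalComplex (ComplexShape.up ℤ)).obj A.J) :=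
  ⟨(asIso (uMap adj A.J)).symm⟩

/-- The cohomology of the dual only depends on the resolution up to quasi-isomorphism. -/
theorem nonempty_homology_D [HasDerivedCategory.{w} C] (A B : DualData T) {I : CochainComplex C ℤ} (i : I ⟶ A.J)
    (hi : QuasiIso i) (i' : I ⟶ B.J) (hi' : QuasiIso i') (K : CochainComplex C ℤ) (q : ℤ) :
    Nonempty ((A.D K).homology q ≅ (B.D K).homology q) := by
  obtain ⟨e⟩ := BidGlobU.nonempty_iso_of_qis A B i hi i' hi' K
  exact ⟨((homologyFunctorFactors C q).app (A.D K)).symm ≪≫ (homologyFunctor _ q).mapIso e ≪≫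
    (homologyFunctorFactors C q).app (B.D K)⟩

omit [∀ (K₁ K₂ : CochainComplex C ℤ), CochainComplex.HasMapBifunctor K₁ K₂ T]
  [∀ E : CochainComplex C ℤ, (T.map₂CochainComplex.flip.obj E).IsLeftAdjoint] in
/-- Bounded below duality data. -/
theorem exists_bdd [EnoughInjectives C] (A : DualData T) (I : C) :
    ∃ (B : DualData T) (i : (CochainComplex.singleFunctor C 0).obj I ⟶ B.J), B.J.IsStrictlyGE 0 ∧ QuasiIso i := by
  obtain ⟨J, ι, hι, hinj, hJ⟩ :=
    CochainComplex.Plus.modelCategoryQuillen.exists_quasiIso_injective ((CochainComplex.singleFunctor C 0).obj I) 0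
  exact ⟨⟨A.S, J, hinj, CochainComplex.isKInjective_of_injective J 0, A.flat⟩, ι, hJ, hι⟩

variable [HasDerivedCategory.{w} C] [EnoughInjectives C] (A : DualData T) {I : C}
  (i : (CochainComplex.singleFunctor C 0).obj I ⟶ A.J) (hi : QuasiIso i)

include hi in
/-- `H^q (D B) = 0` for `q < 0`. -/
theorem isZero_neg {B : C} {R : C ⥤ C} [R.Additive] (adj : T.flip.obj B ⊣ R) (q : ℤ) (hq : q < 0) :
    IsZero ((A.D ((CochainComplex.singleFunctor _ 0).obj B)).homology q) := by
  obtain ⟨A', i', h1, h2⟩ := exists_bdd A I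
  obtain ⟨e⟩ := nonempty_homology_D A A' i hi i' h2 ((CochainComplex.singleFunctor _ 0).obj B) q
  obtain ⟨e2⟩ := nonempty_D_single A' adj
  refine IsZero.of_iso ?_ (e ≪≫ (HomologicalComplex.homologyFunctor _ _ q).mapIso e2)
  have h3 : CochainComplex.IsStrictlyGE ((R.mapHomologicalComplex (ComplexShape.up ℤ)).obj A'.J) 0 := inferInstance
  exact HomologicalComplex.ExactAt.isZero_homology (CochainComplex.exactAt_of_isGE _ 0 q hq)

include hi in
/-- `H^q (D B) ≅ R^q P (R I)` if `Hom(B, -) ≅ P R`. -/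
theorem nonempty_rep {B : C} {H : C ⥤ C} [H.Additive] (adj : T.flip.obj B ⊣ H)
    {C' : Type u₂} [Category.{v'} C'] [Abelian C'] [EnoughInjectives C'] (R : C ⥤ C') [R.Additive]
    [PreservesFiniteLimits R] [PreservesFiniteColimits R] (hR : ∀ M : C, Injective M → Injective (R.obj M))
    (P : C' ⥤ C) [P.Additive] [PreservesFiniteLimits P] (ψ : H ≅ R ⋙ P) (q : ℕ) :
    Nonempty ((A.D ((CochainComplex.singleFunctor _ 0).obj B)).homology q ≅ (P.rightDerived q).obj (R.obj I)) := by
  obtain ⟨A', i', h1, h2⟩ := exists_bdd A I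
  obtain ⟨e⟩ := nonempty_homology_D A A' i hi i' h2 ((CochainComplex.singleFunctor _ 0).obj B) q
  obtain ⟨e2⟩ := nonempty_D_single A' adj
  let J' := (R.mapHomologicalComplex (ComplexShape.up ℤ)).obj A'.J
  have h3 : CochainComplex.IsStrictlyGE J' 0 := inferInstance
  obtain ⟨j, h5⟩ : ∃ j : (CochainComplex.singleFunctor _ 0).obj (R.obj I) ⟶ J', QuasiIso j := by
    have h4 : QuasiIso ((R.mapHomologicalComplex (ComplexShape.up ℤ)).map i') := inferInstance
    let t : (CochainComplex.singleFunctor _ 0).obj (R.obj I) ≅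
      (R.mapHomologicalComplex (ComplexShape.up ℤ)).obj ((CochainComplex.singleFunctor C 0).obj I) :=
      ((HomologicalComplex.singleMapHomologicalComplex R (ComplexShape.up ℤ) 0).app I).symm
    exact ⟨t.hom ≫ (R.mapHomologicalComplex (ComplexShape.up ℤ)).map i', inferInstance⟩
  have h6 : ∀ n, Injective (J'.X n) := fun n => hR _ (A'.inj n)
  obtain ⟨e3⟩ := nonempty_homology_iso P h6 j q
  exact ⟨e ≪≫ (HomologicalComplex.homologyFunctor _ _ (q : ℤ)).mapIso (e2 ≪≫
    (NatIso.mapHomologicalComplex ψ (ComplexShape.up ℤ)).app A'.J) ≪≫ e3⟩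

end Dual

section Shift

variable {C : Type u₁} [Category.{v} C] [Abelian C] {T : C ⥤ C ⥤ C} [T.Additive] [∀ X, (T.obj X).Additive]
  [∀ (K₁ K₂ : CochainComplex C ℤ), CochainComplex.HasMapBifunctor K₁ K₂ T]
  [∀ E : CochainComplex C ℤ, (T.map₂CochainComplex.flip.obj E).IsLeftAdjoint]
  [∀ (J : Type), HasColimitsOfShape (Discrete J) C]
  [∀ (J : Type), (colim : (Discrete J ⥤ C) ⥤ C).PreservesMonomorphisms]
  (A : DualData T)

/-- The long exact sequence of the dual. -/
theorem exact_homology_D {S : ShortComplex C} (hS : S.ShortExact) (p q : ℤ) (hpq : p + 1 = q) :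
    ∃ (a : (A.D ((CochainComplex.singleFunctor C 0).obj S.X₁)).homology p ⟶
        (A.D ((CochainComplex.singleFunctor C 0).obj S.X₃)).homology q)
      (b : (A.D ((CochainComplex.singleFunctor C 0).obj S.X₃)).homology q ⟶
        (A.D ((CochainComplex.singleFunctor C 0).obj S.X₂)).homology q) (w : a ≫ b = 0),
      (ShortComplex.mk a b w).Exact := by
  have h1 := A.shortExact_dualSC (BidWay.single_shortExact hS 0)
  exact ⟨h1.δ p q hpq, _, _, h1.homology_exact₁ p q hpq⟩

/-- **Dimension shifting** for the cohomology of the dual. -/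
theorem prop_homology_D (Q K : ObjectProperty C)
    (hQ : ∀ {X Y Z : C} (a : X ⟶ Y) (b : Y ⟶ Z) (w : a ≫ b = 0), (ShortComplex.mk a b w).Exact → Q X → Q Z → Q Y)
    (P : ObjectProperty C)
    (hres : ∀ F : C, K F → ∃ (Y Z : C) (f : Y ⟶ Z) (g : Z ⟶ F) (w : f ≫ g = 0),
      (ShortComplex.mk f g w).ShortExact ∧ K Y ∧ P Z)
    (hneg : ∀ (F : C) (q : ℤ), q < 0 → Q ((A.D ((CochainComplex.singleFunctor C 0).obj F)).homology q))
    (hP : ∀ (F : C) (q : ℤ), P F → Q ((A.D ((CochainComplex.singleFunctor C 0).obj F)).homology q))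
    (F : C) (hF : K F) (q : ℤ) : Q ((A.D ((CochainComplex.singleFunctor C 0).obj F)).homology q) := by
  have key : ∀ (n : ℕ) (F : C), K F → ∀ q : ℤ, q < n →
      Q ((A.D ((CochainComplex.singleFunctor C 0).obj F)).homology q) := by
    intro n
    induction n with
    | zero => exact fun F _ q hq => hneg F q (by simpa using hq)
    | succ n ih =>
      intro F hF q hq
      obtain ⟨Y, Z, f, g, w, hS, hY, hZ⟩ := hres F hF
      obtain ⟨a, b, w', hex⟩ := exact_homology_D A hS (q - 1) q (by omega)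
      exact hQ a b w' hex (ih Y hY (q - 1) (by push_cast at hq; omega)) (hP Z q hZ)
  exact key (q.toNat + 1) F hF q (by push_cast; omega)

/-- All `H^q (D F)` satisfy `Q`. -/
structure AllP (Q : ObjectProperty C) (F : C) : Prop where
  out : ∀ q : ℤ, Q ((A.D ((CochainComplex.singleFunctor C 0).obj F)).homology q)

/-- The objects `F` all of whose `H^q (D F)` satisfy `Q`. -/
def allP (Q : ObjectProperty C) : ObjectProperty C := fun F => AllP A Q F

variable (Q : ObjectProperty C) [Q.IsClosedUnderIsomorphisms]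

instance : (allP A Q).IsClosedUnderIsomorphisms := ⟨fun {F G} e hF => ⟨fun q => by
  let e' : A.D ((CochainComplex.singleFunctor C 0).obj G) ≅ A.D ((CochainComplex.singleFunctor C 0).obj F) :=
    A.F.mapIso ((CochainComplex.singleFunctor C 0).mapIso e).op
  exact Q.prop_of_iso ((HomologicalComplex.homologyFunctor C _ q).mapIso e'.symm) (hF.out q)⟩⟩

omit [∀ (J : Type), HasColimitsOfShape (Discrete J) C]
  [∀ (J : Type), (colim : (Discrete J ⥤ C) ⥤ C).PreservesMonomorphisms] [Q.IsClosedUnderIsomorphisms] in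
theorem containsZero_allP (h0 : ∀ X : C, IsZero X → Q X) : (allP A Q).ContainsZero := by
  obtain ⟨Z, hZ⟩ : ∃ Z : C, IsZero Z := HasZeroObject.zero
  refine ⟨Z, hZ, ⟨fun q => h0 _ ?_⟩⟩
  have h3 : IsZero (A.D ((CochainComplex.singleFunctor C 0).obj Z)) :=
    A.F.map_isZero ((CochainComplex.singleFunctor C 0).map_isZero hZ).op
  exact (HomologicalComplex.homologyFunctor C _ q).map_isZero h3

/-- The cohomology of the dual of a finite sum. -/
theorem isClosedUnderBinaryProducts_allP
    (hQ : ∀ {X Y Z : C} (a : X ⟶ Y) (b : Y ⟶ Z) (w : a ≫ b = 0), (ShortComplex.mk a b w).Exact → Q X → Q Z → Q Y) :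
    (allP A Q).IsClosedUnderBinaryProducts := by
  have h3 : (allP A Q).IsClosedUnderExtensions := ⟨fun {S} hS h₁ h₃ => ⟨fun q => by
    have h4 := A.shortExact_dualSC (BidWay.single_shortExact hS 0)
    exact hQ _ _ _ (h4.homology_exact₂ q) (h₃.out q) (h₁.out q)⟩⟩
  exact LamPres857.isClosedUnderBinaryProducts (allP A Q)

end Shift

end K584.DAbs
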