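import Groth.Agent.Sga4h.LamPres857

/-!
# Finite sums of the sheaves `Λ[U]`

A property of sheaves of modules, closed under finite products, which holds for the `Λ[U]`, `U` affine, holds for their
finite sums.
-/

set_option autoImplicit false
universe u

open CategoryTheory CategoryTheory.Limits AlgebraicGeometry

namespace K584.FinLM

open Groth.Agent Groth.Agent.Sga4h

variable {Λ : Type (u + 1)} [CommRing Λ] {X : Scheme.{u}}

theorem of_finLM (P : ObjectProperty (EtModW.Mod Λ X)) [P.IsClosedUnderIsomorphisms] [P.ContainsZero]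
    [P.IsClosedUnderBinaryProducts] (h : ∀ U : X.Etale, IsAffine U.left → P (Etcore.LFree.LM Λ U))
    (Z : EtModW.Mod Λ X) (hZ : LamPres857.FinLM Λ X Z) : P Z := by
  obtain ⟨n, U, hU, rfl⟩ := hZ
  have := ObjectProperty.IsClosedUnderFiniteProducts.mk' (P := P)
  have hb := Abelian.hasFiniteBiproducts (C := EtModW.Mod Λ X)
  exact P.prop_of_iso (biproduct.isoProduct fun i => Etcore.LFree.LM Λ (U i)).symm
    (P.prop_product fun i => h (U i) (hU i))

end K584.FinLM
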