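import Groth.Agent.EtDepth.K584.DAbs
import Groth.Agent.EtDepth.K584.FinLM
import Groth.Agent.Etcore.LFinite

/-!
# Constructibility of the cohomology sheaves of the dual

* `isZero_neg`: `H^q (D F) = 0` for `q < 0`;
* `nonempty_rep`: `H^q (D Λ[U]) ≅ R^q j_* Λ`, `j : U ⟶ X`;
* `isConstructible_D`: `H^q (D F)` is constructible if the `R^q j_* Λ` are, for `U` affine.
-/

set_option autoImplicit false

universe u

open CategoryTheory CategoryTheory.Limits AlgebraicGeometry Opposite

attribute [local instance 5000] CategoryTheory.Abelian.toPreadditive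
  CategoryTheory.Preadditive.preadditiveHasZeroMorphisms

namespace K584.DCon

attribute [local instance] HasDerivedCategory.standard
open scoped Groth.Agent.Sga4h.ModInst Groth.Agent.Sga4h.BidLimAcyc
open Groth.Agent Groth.Agent.Sga4h Groth.Agent.Sga4h.Refl DerivedCategory
open Groth.Agent.Sga4h.BidRed538Main Groth.Agent.Sga4h.BidLimRep Groth.Agent.Sga4h.BidCmp538LM

variable {Λ : Type (u + 1)} [CommRing Λ] {X : Scheme.{u}}

variable (A : DualData (EtModD.tensorBi Λ X)) (i : unitCx Λ X ⟶ A.J) (hi : QuasiIso i)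

include hi in
/-- `H^q (D F) = 0` for `q < 0`. -/
theorem isZero_neg (F : EtModW.Mod Λ X) (q : ℤ) (hq : q < 0) :
    IsZero ((A.D ((CochainComplex.singleFunctor _ 0).obj F)).homology q) :=
  DAbs.isZero_neg A i hi (adjF F) q hq

include hi in
/-- `H^q (D Λ[U]) ≅ R^q j_* Λ`. -/
theorem nonempty_rep {U : X.Etale} {F : EtModW.Mod Λ X} {δ : F.obj.obj (op U)} (hF : Rep U F δ) (q : ℕ) :
    Nonempty ((A.D ((CochainComplex.singleFunctor _ 0).obj F)).homology q ≅
      ((EtModW.push Λ U.hom).rightDerived q).obj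
        ((ModRestr.res Λ U.hom).obj (EtModW.constMod Λ X Λ))) :=
  DAbs.nonempty_rep A i hi (adjF F) (ModRestr.res Λ U.hom) (fun M _ => ModRestr.injective_res Λ U.hom M)
    (EtModW.push Λ U.hom) (psiIso hF) q

/-- The constructible sheaves. -/
def conP (Λ : Type (u + 1)) [CommRing Λ] (X : Scheme.{u}) : ObjectProperty (EtModW.Mod Λ X) :=
  fun F => EtModW.IsConstructible Λ F

instance : (conP Λ X).IsClosedUnderIsomorphisms := ⟨fun e h => Etcore.LCrit.isConstructible_of_iso e h⟩

theorem conP_of_exact [IsNoetherianRing Λ] [IsLocallyNoetherian X] {X' Y Z : EtModW.Mod Λ X} (a : X' ⟶ Y) (b : Y ⟶ Z) (w : a ≫ b = 0)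
    (hex : (ShortComplex.mk a b w).Exact) (hX : conP Λ X X') (hZ : conP Λ X Z) : conP Λ X Y :=
  LamSerre.isConstructible_of_exact _ hex hX hZ

include hi in
theorem allP_LM
    (U : X.Etale) (hLM : ∀ q : ℕ,
      EtModW.IsConstructible Λ (((EtModW.push Λ U.hom).rightDerived q).obj
        ((ModRestr.res Λ U.hom).obj (EtModW.constMod Λ X Λ)))) :
    DAbs.allP A (conP Λ X) (Etcore.LFree.LM Λ U) := by
  refine ⟨fun q => ?_⟩
  by_cases hq : q < 0
  · exact Dbc323.isConstructible_of_isZero (isZero_neg A i hi _ q hq)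
  · obtain ⟨r, rfl⟩ : ∃ r : ℕ, q = r := ⟨q.toNat, by omega⟩
    obtain ⟨e⟩ := nonempty_rep A i hi (rep_LM (Λ := Λ) U) r
    exact Etcore.LCrit.isConstructible_of_iso e.symm (hLM r)

include hi in
theorem allP_finLM [IsNoetherianRing Λ] [IsNoetherian X]
    (hLM : ∀ U : X.Etale, IsAffine U.left → ∀ q : ℕ,
      EtModW.IsConstructible Λ (((EtModW.push Λ U.hom).rightDerived q).obj
        ((ModRestr.res Λ U.hom).obj (EtModW.constMod Λ X Λ))))
    (Z : EtModW.Mod Λ X) (hZ : LamPres857.FinLM Λ X Z) : DAbs.allP A (conP Λ X) Z := by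
  have h1 := DAbs.containsZero_allP A (conP Λ X) (fun F hF => Dbc323.isConstructible_of_isZero hF)
  have h2 := DAbs.isClosedUnderBinaryProducts_allP A (conP Λ X) conP_of_exact
  exact FinLM.of_finLM _ (fun U hU => allP_LM A i hi U (hLM U hU)) Z hZ

include hi in
/-- **Constructibility of the cohomology of the dual**, by dimension shifting. -/
theorem isConstructible_D [IsNoetherianRing Λ] [IsNoetherian X]
    (hLM : ∀ U : X.Etale, IsAffine U.left → ∀ q : ℕ,
      EtModW.IsConstructible Λ (((EtModW.push Λ U.hom).rightDerived q).obj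
        ((ModRestr.res Λ U.hom).obj (EtModW.constMod Λ X Λ))))
    (F : EtModW.Mod Λ X) (hF : EtModW.IsConstructible Λ F) (q : ℤ) :
    EtModW.IsConstructible Λ ((A.D ((CochainComplex.singleFunctor _ 0).obj F)).homology q) := by
  refine DAbs.prop_homology_D A (conP Λ X) (conP Λ X) ?_ (LamPres857.FinLM Λ X) ?_ ?_ ?_ F hF q
  · exact conP_of_exact
  · intro F hF
    obtain ⟨Y, Z, f, g, w, hS, hY, hZ⟩ := LamPres857.exists_shortExact F hF
    exact ⟨Y, Z, f, g, w, hS, hY, hZ⟩
  · intro F q hq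
    exact Dbc323.isConstructible_of_isZero (isZero_neg A i hi F q hq)
  · intro Z q hZ
    exact (allP_finLM A i hi hLM Z hZ).out q

end K584.DCon
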