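import Groth.Agent.CycB.TrdegAlg
import Groth.Agent.CalgC.DimFT
import Groth.Agent.Etbc.H215.DimSH
import Groth.Agent.Sga2lef.H99.ClosedFib
import Groth.Agent.S0541
import Groth.Agent.S0554
import Groth.Agent.S0540

/-!
# The dimension function `dim (A / p) + trdeg (L / κ(p))`

* `DelLE φ d` for `φ : A → L`, `L` a domain: `dim (A / ker φ) + trdeg (L / A) ≤ d`.
* `exists_del`: the comparison with the strict henselization of a local ring of a finite type `A`-algebra.
-/

set_option autoImplicit false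
universe u
open IsLocalRing

namespace K584.Del

open Groth.Agent.CycB.TrdegAlg

section basic

variable {A A' L M : Type u} [CommRing A] [CommRing A'] [CommRing L] [CommRing M]

/-- Transcendence degree of the target over the image. -/
noncomputable def tr (φ : A →+* L) : Cardinal.{u} := trd (RingHom.kerLift φ)

/-- `dim (A / ker φ) + trdeg (L / A) ≤ d` -/
def DelLE (φ : A →+* L) (d : ℕ) : Prop :=
  ∃ a b : ℕ, a + b ≤ d ∧ ringKrullDim (A ⧸ RingHom.ker φ) ≤ a ∧ tr φ ≤ b

theorem DelLE.mono {φ : A →+* L} {d e : ℕ} (h : DelLE φ d) (hde : d ≤ e) : DelLE φ e := by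
  obtain ⟨a, b, h1, h2, h3⟩ := h
  exact ⟨a, b, h1.trans hde, h2, h3⟩

theorem isDomain_quotient_ker [IsDomain L] (φ : A →+* L) : IsDomain (A ⧸ RingHom.ker φ) :=
  (RingHom.kerLift_injective φ).isDomain (RingHom.kerLift φ)

theorem tr_of_injective [IsDomain L] (φ : A →+* L) (h : Function.Injective φ) : tr φ = trd φ := by
  have h0 := isDomain_quotient_ker φ
  have hA : IsDomain A := h.isDomain φ
  have h1 : φ = (RingHom.kerLift φ).comp (Ideal.Quotient.mk (RingHom.ker φ)) := by
    ext x; rfl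
  have hinj : Function.Injective (Ideal.Quotient.mk (RingHom.ker φ)) := by
    rw [RingHom.injective_iff_ker_eq_bot, Ideal.mk_ker]
    exact (RingHom.injective_iff_ker_eq_bot φ).1 h
  have h2 : trd φ = trd (Ideal.Quotient.mk (RingHom.ker φ)) + trd (RingHom.kerLift φ) := by
    rw [← trd_comp' _ _ hinj (RingHom.kerLift_injective φ)]
    exact congrArg trd h1
  rw [h2, trd_eq_zero_of_surjective _ hinj Ideal.Quotient.mk_surjective, zero_add]
  rfl

theorem bij_quotientMap (π : A →+* A') (hπ : Function.Surjective π) (φ' : A' →+* L) :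
    Function.Bijective (Ideal.quotientMap (RingHom.ker φ') π
      (show RingHom.ker (φ'.comp π) ≤ (RingHom.ker φ').comap π from fun _ hx => hx)) :=
  ⟨Ideal.quotientMap_injective' (fun _ hx => hx), Ideal.quotientMap_surjective hπ⟩

theorem tr_comp_of_surjective [IsDomain L] (π : A →+* A') (hπ : Function.Surjective π) (φ' : A' →+* L) :
    tr (φ'.comp π) = tr φ' := by
  have h0 := isDomain_quotient_ker φ'
  have h0' := isDomain_quotient_ker (φ'.comp π)
  have hb := bij_quotientMap π hπ φ'
  have h1 : RingHom.kerLift (φ'.comp π) = (RingHom.kerLift φ').comp (Ideal.quotientMap (RingHom.ker φ') π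
      (show RingHom.ker (φ'.comp π) ≤ (RingHom.ker φ').comap π from fun _ hx => hx)) := by
    refine Ideal.Quotient.ringHom_ext ?_
    ext x
    rfl
  rw [tr, h1, trd_comp' _ _ hb.1 (RingHom.kerLift_injective φ'), trd_eq_zero_of_surjective _ hb.1 hb.2, zero_add]
  rfl

theorem dim_comp_of_surjective (π : A →+* A') (hπ : Function.Surjective π) (φ' : A' →+* L) :
    ringKrullDim (A ⧸ RingHom.ker (φ'.comp π)) = ringKrullDim (A' ⧸ RingHom.ker φ') :=
  ringKrullDim_eq_of_ringEquiv (RingEquiv.ofBijective _ (bij_quotientMap π hπ φ'))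

theorem ker_comp_inj (φ : A →+* L) (ψ : L →+* M) (hψ : Function.Injective ψ) :
    RingHom.ker (ψ.comp φ) = RingHom.ker φ := by
  ext x
  rw [RingHom.mem_ker, RingHom.mem_ker, RingHom.comp_apply, map_eq_zero_iff ψ hψ]

theorem dim_comp_of_injective (φ : A →+* L) (ψ : L →+* M) (hψ : Function.Injective ψ) :
    ringKrullDim (A ⧸ RingHom.ker (ψ.comp φ)) = ringKrullDim (A ⧸ RingHom.ker φ) := by
  rw [ker_comp_inj φ ψ hψ]

theorem tr_comp_of_injective [IsDomain L] [IsDomain M] (φ : A →+* L) (ψ : L →+* M)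
    (hψ : Function.Injective ψ) : tr (ψ.comp φ) = tr φ + trd ψ := by
  have h0 := isDomain_quotient_ker φ
  have h1 : ψ.comp φ = (ψ.comp (RingHom.kerLift φ)).comp (Ideal.Quotient.mk (RingHom.ker φ)) := by
    ext x; rfl
  have hinj : Function.Injective (ψ.comp (RingHom.kerLift φ)) := hψ.comp (RingHom.kerLift_injective φ)
  rw [h1, tr_comp_of_surjective _ Ideal.Quotient.mk_surjective, tr_of_injective _ hinj,
    trd_comp' _ _ (RingHom.kerLift_injective φ) hψ]
  rfl

/-- Passage to an algebraic extension of the target. -/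
theorem delLE_comp_iff [IsDomain L] [IsDomain M] (φ : A →+* L) (ψ : L →+* M)
    (hψ : Function.Injective ψ) (hψ' : trd ψ = 0) (d : ℕ) : DelLE (ψ.comp φ) d ↔ DelLE φ d := by
  unfold DelLE
  rw [dim_comp_of_injective φ ψ hψ, tr_comp_of_injective φ ψ hψ, hψ', add_zero]

theorem delLE_of_comp [IsDomain L] [IsDomain M] (φ : A →+* L) (ψ : L →+* M)
    (hψ : Function.Injective ψ) (d : ℕ) (h : DelLE (ψ.comp φ) d) : DelLE φ d := by
  obtain ⟨a, b, h1, h2, h3⟩ := h
  rw [dim_comp_of_injective φ ψ hψ] at h2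
  rw [tr_comp_of_injective φ ψ hψ] at h3
  exact ⟨a, b, h1, h2, le_self_add.trans h3⟩

theorem delLE_comp_surjective_iff [IsDomain L] (π : A →+* A') (hπ : Function.Surjective π) (φ : A' →+* L) (d : ℕ) :
    DelLE (φ.comp π) d ↔ DelLE φ d := by
  unfold DelLE
  rw [dim_comp_of_surjective π hπ φ, tr_comp_of_surjective π hπ φ]

/-- Evaluation at `σ : B → L` with `L` generated by the image as a field. -/
theorem delLE_fracGen_iff {L : Type u} [Field L] (g : A →+* A') (P : Ideal A') (σ : A' →+* L)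
    (hker : RingHom.ker σ = P) (hσ : FracGen σ) (d : ℕ) :
    DelLE (σ.comp g) d ↔ DelLE ((Ideal.Quotient.mk P).comp g) d := by
  subst hker
  have h0 := isDomain_quotient_ker σ
  have h1 : σ.comp g = (RingHom.kerLift σ).comp ((Ideal.Quotient.mk (RingHom.ker σ)).comp g) := by
    ext x; rfl
  rw [h1, delLE_comp_iff _ _ (RingHom.kerLift_injective σ) hσ.trd_kerLift]

end basic

section ineq

/-- The dimension inequality. -/
theorem dimIneq {R S K : Type u} [CommRing R] [IsDomain R] [IsNoetherianRing R] [CommRing S] [IsDomain S]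
    [CommRing K] [IsDomain K] (g : R →+* S) (hg : Function.Injective g) (hgft : g.FiniteType) (κ : S →+* K)
    (hκ : Function.Surjective κ) :
    ((RingHom.ker κ).height : Cardinal.{u}) + tr (κ.comp g) ≤
      ((RingHom.ker (κ.comp g)).height : Cardinal.{u}) + trd g := by
  let _ : Algebra R S := g.toAlgebra
  have hff : FaithfulSMul R S := (faithfulSMul_iff_algebraMap_injective R S).2 hg
  have hft : Algebra.FiniteType R S := hgft
  have hp : (RingHom.ker (κ.comp g)).IsPrime := RingHom.ker_isPrime _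
  have hq : (RingHom.ker κ).IsPrime := RingHom.ker_isPrime _
  have hlo : (RingHom.ker κ).LiesOver (RingHom.ker (κ.comp g)) := ⟨rfl⟩
  have h1 := Groth.Agent.S0554.result R S (RingHom.ker (κ.comp g)) (RingHom.ker κ)
  have h0 := isDomain_quotient_ker κ
  have h0' := isDomain_quotient_ker (κ.comp g)
  have h2 : RingHom.kerLift (κ.comp g) = (RingHom.kerLift κ).comp
      (algebraMap (R ⧸ RingHom.ker (κ.comp g)) (S ⧸ RingHom.ker κ)) := by
    refine Ideal.Quotient.ringHom_ext ?_
    ext x
    rfl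
  have h3 : Function.Injective (algebraMap (R ⧸ RingHom.ker (κ.comp g)) (S ⧸ RingHom.ker κ)) := by
    have h4 : Function.Injective ((RingHom.kerLift κ).comp
      (algebraMap (R ⧸ RingHom.ker (κ.comp g)) (S ⧸ RingHom.ker κ))) := by
      rw [← h2]
      exact RingHom.kerLift_injective _
    exact Function.Injective.of_comp (f := RingHom.kerLift κ) h4
  have h4 : Function.Surjective (RingHom.kerLift κ) := by
    intro x
    obtain ⟨y, rfl⟩ := hκ x
    exact ⟨Ideal.Quotient.mk _ y, rfl⟩
  have h5 : tr (κ.comp g) = Algebra.trdeg (R ⧸ RingHom.ker (κ.comp g)) (S ⧸ RingHom.ker κ) := by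
    rw [tr, h2, trd_comp' _ _ h3 (RingHom.kerLift_injective κ),
      trd_eq_zero_of_surjective _ (RingHom.kerLift_injective κ) h4, add_zero, trd_algebraMap]
  rw [h5]
  refine h1.trans (le_of_eq ?_)
  rfl

end ineq

section strict

/-- The dimension of the quotient of a strict henselization of a local ring of `B`. -/
theorem ringKrullDim_strict_le {B S R : Type u} [CommRing B] [CommRing S] [IsLocalRing S]
    [CommRing R] [IsLocalRing R] (P₀ : Ideal B) [P₀.IsPrime] [Algebra B S] [IsLocalization.AtPrime S P₀]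
    [Algebra S R] [IsLocalHom (algebraMap S R)] [Hensel.IsStrictHenselization S R]
    (P : Ideal B) [hP : P.IsPrime] (hPP : P ≤ P₀) (J : Ideal R)
    (hJ : P.map ((algebraMap S R).comp (algebraMap B S)) ≤ J) :
    ringKrullDim (R ⧸ J) ≤ ((RingHom.ker (Ideal.Quotient.factor hPP)).height : WithBot ℕ∞) := by
  let P₁ : Ideal S := P.map (algebraMap B S)
  have hP₁ : P₁ ≤ maximalIdeal S := by
    rw [Ideal.map_le_iff_le_comap]
    intro x hx
    have h1 : ¬ IsUnit (algebraMap B S x) := by
      rw [IsLocalization.AtPrime.isUnit_to_map_iff S P₀ x]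
      exact fun h => h (hPP hx)
    exact (mem_maximalIdeal _).2 h1
  have hne : P₁ ≠ ⊤ := fun h => (maximalIdeal.isMaximal S).ne_top (top_le_iff.1 (h ▸ hP₁))
  have l0 : Nontrivial (S ⧸ P₁) := Ideal.Quotient.nontrivial_iff.2 hne
  have l1 : IsLocalRing (S ⧸ P₁) :=
    IsLocalRing.of_surjective' (Ideal.Quotient.mk _) Ideal.Quotient.mk_surjective
  have hP₂ : P₁.map (algebraMap S R) ≤ maximalIdeal R := by
    rw [Ideal.map_le_iff_le_comap, IsLocalRing.maximalIdeal_comap]
    exact hP₁
  have hne2 : P₁.map (algebraMap S R) ≠ ⊤ := fun h =>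
    (maximalIdeal.isMaximal R).ne_top (top_le_iff.1 (h ▸ hP₂))
  have l2 : Nontrivial (R ⧸ P₁.map (algebraMap S R)) := Ideal.Quotient.nontrivial_iff.2 hne2
  have l3 : IsLocalRing (R ⧸ P₁.map (algebraMap S R)) :=
    IsLocalRing.of_surjective' (Ideal.Quotient.mk _) Ideal.Quotient.mk_surjective
  obtain ⟨h1, h2⟩ := Groth.Agent.Sga2lef.H99.ClosedFib.isStrictHenselization_quotient S R P₁ hP₁
  have h3 := Groth.Agent.S0541.result (S ⧸ P₁) (R ⧸ P₁.map (algebraMap S R))
  have hJ' : P₁.map (algebraMap S R) ≤ J := by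
    rw [Ideal.map_map]
    exact hJ
  have h4 : ringKrullDim (R ⧸ J) ≤ ringKrullDim (R ⧸ P₁.map (algebraMap S R)) :=
    ringKrullDim_le_of_surjective (Ideal.Quotient.factor hJ') (Ideal.Quotient.factor_surjective hJ')
  refine h4.trans (h3.le.trans ?_)
  -- the localization
  have hq : (RingHom.ker (Ideal.Quotient.factor hPP)).IsPrime := RingHom.ker_isPrime _
  let _ : Algebra (B ⧸ P) (S ⧸ P₁) := (Ideal.quotientMap P₁ (algebraMap B S) Ideal.le_comap_map).toAlgebra
  have hloc : IsLocalization.AtPrime (S ⧸ P₁) (RingHom.ker (Ideal.Quotient.factor hPP)) := by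
    have h5 := IsLocalization.of_surjective P₀.primeCompl S (Ideal.Quotient.mk P)
      Ideal.Quotient.mk_surjective (Ideal.Quotient.mk P₁) Ideal.Quotient.mk_surjective
      (by ext x; rfl) (by rw [Ideal.mk_ker, Ideal.mk_ker])
    have h6 : P₀.primeCompl.map (Ideal.Quotient.mk P) =
        (RingHom.ker (Ideal.Quotient.factor hPP)).primeCompl := by
      ext x
      obtain ⟨x, rfl⟩ := Ideal.Quotient.mk_surjective x
      constructor
      · rintro ⟨y, hy, hyx⟩
        change ¬ (Ideal.Quotient.factor hPP (Ideal.Quotient.mk P x) = 0)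
        rw [← hyx]
        change ¬ (Ideal.Quotient.mk P₀ y = 0)
        rw [Ideal.Quotient.eq_zero_iff_mem]
        exact hy
      · intro hx
        have hx' : ¬ (Ideal.Quotient.mk P₀ x = 0) := hx
        rw [Ideal.Quotient.eq_zero_iff_mem] at hx'
        exact ⟨x, hx', rfl⟩
    rw [h6] at h5
    exact h5
  exact (IsLocalization.AtPrime.ringKrullDim_eq_height (RingHom.ker (Ideal.Quotient.factor hPP)) (S ⧸ P₁)).le

theorem exists_nat_of_ringKrullDim (R : Type u) [CommRing R] [IsNoetherianRing R] [IsLocalRing R] :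
    ∃ a : ℕ, ringKrullDim R = a := by
  have h : ringKrullDim R ≠ ⊤ := ringKrullDim_ne_top
  have h' : ringKrullDim R ≠ ⊥ := ringKrullDim_ne_bot
  obtain ⟨c, hc⟩ := WithBot.ne_bot_iff_exists.1 h'
  rw [← hc] at h ⊢
  have : c ≠ ⊤ := fun e => h (by rw [e]; rfl)
  obtain ⟨n, hn⟩ := ENat.ne_top_iff_exists.1 this
  exact ⟨n, by rw [← hn]; rfl⟩

theorem exists_nat_height {R : Type u} [CommRing R] [IsNoetherianRing R] (P : Ideal R) [P.IsPrime] :
    ∃ a : ℕ, P.height = a := by
  obtain ⟨h, hh⟩ := ENat.ne_top_iff_exists.mp (Ideal.height_ne_top_of_isPrime (I := P))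
  exact ⟨h, hh.symm⟩

theorem tr_lt_aleph0 {A B L : Type u} [CommRing A] [CommRing B] [CommRing L] [IsDomain L] (g : A →+* B)
    (hg : g.FiniteType) (π : B →+* L) (hπ : Function.Surjective π) : tr (π.comp g) < Cardinal.aleph0 := by
  have h0 := isDomain_quotient_ker (π.comp g)
  let _ : Algebra (A ⧸ RingHom.ker (π.comp g)) L := (RingHom.kerLift (π.comp g)).toAlgebra
  have h1 : (π.comp g).FiniteType := (RingHom.FiniteType.of_surjective π hπ).comp hg
  have h2 : (RingHom.kerLift (π.comp g)).FiniteType := by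
    have h3 : (RingHom.kerLift (π.comp g)).comp (Ideal.Quotient.mk _) = π.comp g := by ext x; rfl
    refine RingHom.FiniteType.of_comp_finiteType (f := Ideal.Quotient.mk (RingHom.ker (π.comp g))) ?_
    rw [h3]
    exact h1
  have h3 : Algebra.FiniteType (A ⧸ RingHom.ker (π.comp g)) L := h2
  have hkd := h0
  rw [tr, trd]
  exact trdeg_lt_aleph0_of_finiteType

/-- **The comparison of the dimension functions of `A` and of the strict henselization `R` of a local ring
of the finite type `A`-algebra `B`.** -/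
theorem exists_del {A B S R : Type u} [CommRing A] [IsNoetherianRing A] [IsLocalRing A] [CommRing B]
    [CommRing S] [IsLocalRing S] [CommRing R] [IsLocalRing R] (g : A →+* B) (hg : g.FiniteType)
    (P₀ : Ideal B) [hP₀ : P₀.IsPrime] [Algebra B S] [IsLocalization.AtPrime S P₀]
    [Algebra S R] [IsLocalHom (algebraMap S R)] [Hensel.IsStrictHenselization S R] :
    ∃ e : ℕ, DelLE ((Ideal.Quotient.mk P₀).comp g) e ∧
      ∀ (L : Type u) [Field L] (χ : R →+* L) (D : ℕ),
        DelLE (χ.comp (((algebraMap S R).comp (algebraMap B S)).comp g)) D → e ≤ D ∧ DelLE χ (D - e) := by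
  have hBN : IsNoetherianRing B := by
    let _ := g.toAlgebra
    have : Algebra.FiniteType A B := hg
    exact Algebra.FiniteType.isNoetherianRing A B
  have hp₀ : (RingHom.ker ((Ideal.Quotient.mk P₀).comp g)).IsPrime := RingHom.ker_isPrime _
  have hloc₀ : IsLocalRing (A ⧸ RingHom.ker ((Ideal.Quotient.mk P₀).comp g)) :=
    IsLocalRing.of_surjective' (Ideal.Quotient.mk _) Ideal.Quotient.mk_surjective
  obtain ⟨a₀, ha₀⟩ := exists_nat_of_ringKrullDim (A ⧸ RingHom.ker ((Ideal.Quotient.mk P₀).comp g))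
  obtain ⟨b₀, hb₀⟩ := Cardinal.lt_aleph0.1 (tr_lt_aleph0 g hg (Ideal.Quotient.mk P₀) Ideal.Quotient.mk_surjective)
  refine ⟨a₀ + b₀, ⟨a₀, b₀, le_rfl, ha₀.le, hb₀.le⟩, ?_⟩
  intro L _ χ D hD
  set ρ : B →+* R := (algebraMap S R).comp (algebraMap B S) with hρdef
  let P : Ideal B := RingHom.ker (χ.comp ρ)
  have hP : P.IsPrime := RingHom.ker_isPrime _
  have hPP : P ≤ P₀ := by
    intro x hx
    by_contra hx0
    have h1 : IsUnit (algebraMap B S x) := (IsLocalization.AtPrime.isUnit_to_map_iff S P₀ x).2 hx0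
    have h2 : IsUnit (χ (ρ x)) := (h1.map (algebraMap S R)).map χ
    rw [show χ (ρ x) = 0 from hx] at h2
    exact not_isUnit_zero h2
  let p : Ideal A := RingHom.ker ((χ.comp ρ).comp g)
  have hp : p.IsPrime := RingHom.ker_isPrime _
  let gb : A ⧸ p →+* B ⧸ P := Ideal.quotientMap P g (fun _ hx => hx)
  have hgb : Function.Injective gb := Ideal.quotientMap_injective' (fun _ hx => hx)
  have hgbft : gb.FiniteType := by
    refine RingHom.FiniteType.of_comp_finiteType (f := Ideal.Quotient.mk p) ?_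
    have h1 : gb.comp (Ideal.Quotient.mk p) = (Ideal.Quotient.mk P).comp g := by ext x; rfl
    rw [h1]
    exact (RingHom.FiniteType.of_surjective _ Ideal.Quotient.mk_surjective).comp hg
  let κ : B ⧸ P →+* B ⧸ P₀ := Ideal.Quotient.factor hPP
  have hκ : Function.Surjective κ := Ideal.Quotient.factor_surjective hPP
  have k1 := dimIneq gb hgb hgbft κ hκ
  -- identify the terms
  have e1 : (Ideal.Quotient.mk P₀).comp g = (κ.comp gb).comp (Ideal.Quotient.mk p) := by ext x; rfl
  have k2 : tr (κ.comp gb) = (b₀ : Cardinal.{u}) := by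
    rw [← tr_comp_of_surjective (Ideal.Quotient.mk p) Ideal.Quotient.mk_surjective, ← e1]
    exact hb₀
  have k3 : ringKrullDim ((A ⧸ p) ⧸ RingHom.ker (κ.comp gb)) = (a₀ : WithBot ℕ∞) := by
    rw [← dim_comp_of_surjective (Ideal.Quotient.mk p) Ideal.Quotient.mk_surjective, ← e1]
    exact ha₀
  have hprκ : (RingHom.ker κ).IsPrime := RingHom.ker_isPrime _
  have hprκg : (RingHom.ker (κ.comp gb)).IsPrime := RingHom.ker_isPrime _
  obtain ⟨h, hh⟩ := exists_nat_height (RingHom.ker κ)
  obtain ⟨c, hc⟩ := exists_nat_height (RingHom.ker (κ.comp gb))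
  have k4 := Groth.Agent.CalgC.DimFT.height_add_ringKrullDim_quotient_le (RingHom.ker (κ.comp gb))
  obtain ⟨a, b, hab, ha, hb⟩ := hD
  have ha' : ringKrullDim (A ⧸ p) ≤ a := ha
  have k5 : c + a₀ ≤ a := by
    have := k4.trans ha'
    rw [hc, k3] at this
    exact_mod_cast this
  -- transcendence degrees
  let χ' : B ⧸ P →+* L := RingHom.kerLift (χ.comp ρ)
  have hχ' : Function.Injective χ' := RingHom.kerLift_injective _
  have e2 : χ.comp (ρ.comp g) = (χ'.comp gb).comp (Ideal.Quotient.mk p) := by ext x; rfl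
  have k6 : tr (χ.comp (ρ.comp g)) = trd gb + trd χ' := by
    have hinj : Function.Injective (χ'.comp gb) := hχ'.comp hgb
    rw [e2, tr_comp_of_surjective _ Ideal.Quotient.mk_surjective, tr_of_injective _ hinj,
      trd_comp' _ _ hgb hχ']
  have k7 : tr χ ≤ trd χ' := by
    have hdom := isDomain_quotient_ker χ
    let ρb : B ⧸ P →+* R ⧸ RingHom.ker χ := Ideal.quotientMap (RingHom.ker χ) ρ (fun _ hx => hx)
    have hρb : Function.Injective ρb := Ideal.quotientMap_injective' (fun _ hx => hx)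
    have e3 : χ' = (RingHom.kerLift χ).comp ρb := by
      refine Ideal.Quotient.ringHom_ext ?_
      ext x
      rfl
    rw [e3, trd_comp' _ _ hρb (RingHom.kerLift_injective χ)]
    exact le_add_self
  rw [k6] at hb
  have hfin1 : trd gb < Cardinal.aleph0 := (le_self_add.trans hb).trans_lt (Cardinal.natCast_lt_aleph0)
  have hfin2 : trd χ' < Cardinal.aleph0 := (le_add_self.trans hb).trans_lt (Cardinal.natCast_lt_aleph0)
  obtain ⟨n₁, hn₁⟩ := Cardinal.lt_aleph0.1 hfin1
  obtain ⟨n₂, hn₂⟩ := Cardinal.lt_aleph0.1 hfin2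
  rw [hn₁, hn₂] at hb
  have k8 : n₁ + n₂ ≤ b := by exact_mod_cast hb
  rw [hh, hc, k2, hn₁] at k1
  have k9 : h + b₀ ≤ c + n₁ := by
    have k1' : ((h : ℕ) : Cardinal.{u}) + (b₀ : Cardinal.{u}) ≤ ((c : ℕ) : Cardinal.{u}) + n₁ := by
      simpa using k1
    exact_mod_cast k1'
  have k10 := ringKrullDim_strict_le (S := S) (R := R) P₀ P hPP (RingHom.ker χ) (by
    rw [Ideal.map_le_iff_le_comap]
    intro x hx
    exact hx)
  rw [show (RingHom.ker (Ideal.Quotient.factor hPP)).height = (h : ℕ∞) from hh] at k10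
  refine ⟨by omega, h, n₂, by omega, k10, ?_⟩
  rw [← hn₂]
  exact k7

end strict

end K584.Del
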