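import Groth.Agent.EtDepth.K584.Hulls
import Groth.Agent.EtDepth.K555.DepthReg
import Groth.Agent.Sga5.H856.HYStalk

/-!
# Depth and hulls

`σ : Spec A ⟶ X` a strict localization at `x`, `β : A → B` a regular local homomorphism with `𝔪_A B = 𝔪_B`: the depth of
the inverse image to `Spec B` along the closed point is at least the depth at `x`.
-/

set_option autoImplicit false
universe u
open CategoryTheory CategoryTheory.Limits AlgebraicGeometry Opposite IsLocalRing

namespace K584.DepthHull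

open Groth.Agent Groth.Agent.Etcore Groth.Agent.EtpbcB.BCU Groth.Agent.Etrest.StrictLoc

/-- **Depth of the inverse image to the hull.** -/
theorem isZero_locCoh {X : Scheme.{u}} (qX : X ⟶ Spec (CommRingCat.of (ULift.{u} ℚ))) {A B : Type u} [CommRing A]
    [IsLocalRing A] [IsNoetherianRing A] [CommRing B] [IsLocalRing B] [IsNoetherianRing B]
    {σ : Spec (CommRingCat.of A) ⟶ X} (hσ : IsStrictLoc σ) (x : X) (hx : σ (closedPoint A) = x)
    (β : A →+* B) (hβ : @CAlg.IsRegularHom A _ B _ β.toAlgebra)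
    (hm : (maximalIdeal A).map β = maximalIdeal B) (F : EtCoh.Ab X) (hF : EtCoh.IsTorsion F) (n : ℕ)
    (hn : EtDepth.DepthAtGE X F x n) (q : ℕ) (hq : q < n) :
    IsZero ((EtDual.locCoh (FEt.puncturedSpec B).ι q).obj
      ((EtCoh.pull (Spec.map (CommRingCat.ofHom β) ≫ σ)).obj F)) := by
  rw [Groth.Agent.Sga2lef.H134.DepthAt.depthAtGE_iff_of_isStrictLoc hσ x hx n] at hn
  have hQ : CharZero (ULift.{u} ℚ) := K555.ULiftQ.charZero
  let _ : Algebra A B := β.toAlgebra
  obtain ⟨g', sq⟩ : ∃ g' : (FEt.puncturedSpec B).toScheme ⟶ (FEt.puncturedSpec A).toScheme,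
      IsPullback g' (FEt.puncturedSpec B).ι (FEt.puncturedSpec A).ι (Spec.map (CommRingCat.ofHom β)) := by
    have h0 : (maximalIdeal A).map (algebraMap A B) = maximalIdeal B := hm
    have h1 := Groth.Agent.Sga2lef.H101.CplDepth.preimage_punctured h0
    change IsLocalRing B at *
    rw [← h1]
    exact ⟨_, isPullback_morphismRestrict _ _⟩
  have hNSA : TopologicalSpace.NoetherianSpace (Spec (CommRingCat.of A)) :=
    inferInstanceAs (TopologicalSpace.NoetherianSpace (PrimeSpectrum A))
  have hQA : QuasiCompact (FEt.puncturedSpec A).ι := by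
    have : TopologicalSpace.NoetherianSpace (FEt.puncturedSpec A).toScheme :=
      (FEt.puncturedSpec A).ι.isOpenEmbedding.isInducing.noetherianSpace
    exact quasiCompact_of_noetherianSpace_source _
  have hbc : BCMor (Spec (CommRingCat.of (ULift.{u} ℚ))) (Spec.map (CommRingCat.ofHom β)) :=
    (K555.RegMor.ubc_of_isRegularHom β hβ (σ ≫ qX)).bcMor
  have h2 := Groth.Agent.Sga2lef.H101.LocCohBC.isZero_locCoh_pull hbc sq
    ((EtCoh.pull σ).obj F) (K555.RegBC.isTorsionInvertibleOn_of_isTorsion (ULift.{u} ℚ)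
      (Groth.Agent.Etcore.Torsion.isTorsion_pull σ F hF)) q (hn q hq)
  exact h2.of_iso ((EtDual.locCoh _ q).mapIso
    ((Groth.Agent.EtpbcA.PullFLC.pullComp (Spec.map (CommRingCat.ofHom β)) σ).app F).symm)

/-- Cohomology with support at the closed point. -/
theorem isZero_HY {B : Type u} [CommRing B] [IsLocalRing B] {Ω : Type u} [Field Ω] [IsSepClosed Ω]
    (ξ : Spec (CommRingCat.of Ω) ⟶ Spec (CommRingCat.of B)) [IsClosedImmersion ξ] {U : Scheme.{u}}
    (j : U ⟶ Spec (CommRingCat.of B)) [IsOpenImmersion j] [EtCoh.BCCont j]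
    (hd : IsCompl (Set.range ξ) (Set.range j)) (F : EtCoh.Ab (Spec (CommRingCat.of B))) (q : ℕ)
    (h : IsZero ((EtDual.locCoh j q).obj F)) : IsZero ((EtDual.HY j q).obj F) :=
  ((EtCoh.stalk ξ).map_isZero h).of_iso ((Groth.Agent.Sga5.H856.HYStalk.HYIsoStalk j ξ hd q).app F)

end K584.DepthHull
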