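import Groth.Agent.EtDepth.K584.DCon
import Groth.Agent.EtDepth.K973.Stmt
import Groth.Agent.Etdl.H434.Defs
import Groth.Agent.Etdl.H441.FTAll
import Groth.Agent.Sga4h.ModConstFT
import Groth.Agent.Sga4h.BidFin

/-!
# Constructibility of the cohomology of the dual over power series rings

`isConstructible_homology_D`: `X` of finite type over `Spec K[[x_1, …, x_M]]`, `F` constructible: the `H^q (D F)` are
constructible.
-/

set_option autoImplicit false

universe u

open CategoryTheory CategoryTheory.Limits AlgebraicGeometry Opposite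

namespace K584.HDCon

open Groth.Agent Groth.Agent.Sga4h Groth.Agent.Sga4h.Refl Groth.Agent.Etrest.ModAb
open Groth.Agent.Etdl.H434.Defs

/-- `R^q j_* Λ` is constructible. -/
theorem isConstructible_Rpush {m : ℕ} (hm : 0 < m) {M : ℕ} {K : Type u} [Field K] [CharZero K] {X : Scheme.{u}}
    (f : X ⟶ SP M K) [LocallyOfFiniteType f] [QuasiCompact f] {U : Scheme.{u}} (j : U ⟶ X) [LocallyOfFiniteType j]
    [QuasiCompact j] (F : EtModW.Mod (ULift.{u + 1} (ZMod m)) U)
    (hF : EtModW.IsConstructible (ULift.{u + 1} (ZMod m)) F) (q : ℕ) :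
    EtModW.IsConstructible (ULift.{u + 1} (ZMod m)) ((EtModW.Rpush (ULift.{u + 1} (ZMod m)) j q).obj F) := by
  have : NeZero m := ⟨hm.ne'⟩
  have h1 : EtPBC.IsConstructible ((ab (ULift.{u + 1} (ZMod m)) U).obj F) := BidFin.isConstructible_ab hF
  have h2 : EtCoh.KilledBy m ((ab (ULift.{u + 1} (ZMod m)) U).obj F) := by
    intro V s
    let s' : EtModW.sect (ULift.{u + 1} (ZMod m)) F V := s
    have h : m • s' = 0 := by
      rw [← Nat.cast_smul_eq_nsmul (ULift.{u + 1} (ZMod m))]
      have h0 : (m : ULift.{u + 1} (ZMod m)) = 0 := by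
        apply ULift.down_injective
        exact ZMod.natCast_self m
      rw [h0, zero_smul]
    exact h
  have h3 : EtPBC.IsConstructible ((EtCoh.Rpush j q).obj ((ab (ULift.{u + 1} (ZMod m)) U).obj F)) :=
    Groth.Agent.Etdl.H441.Final.of_ft M (Groth.Agent.Etdl.H441.FTAll.ft M) K f j _ h1 m hm h2 q
  rw [Etcore.LFinite.isConstructible_iff_ab]
  exact EtpbcA.StrataGlob.isConstructible_of_iso ((rpushIso _ j q).app F).symm h3

section Dual

attribute [local instance 5000] CategoryTheory.Abelian.toPreadditive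
  CategoryTheory.Preadditive.preadditiveHasZeroMorphisms
attribute [local instance] HasDerivedCategory.standard
attribute [-instance] ULift.ring
open scoped Groth.Agent.Sga4h.ModInst
open Groth.Agent.Sga4h.BidRed538Main K973.Stmt

theorem isConstructible_lm {m : ℕ} (hm : 0 < m) {M : ℕ} {K : Type u} [Field K] [CharZero K] {X : Scheme.{u}}
    [IsNoetherian X] (f : X ⟶ SP M K) [LocallyOfFiniteType f] [QuasiCompact f] (U : X.Etale) (hU : IsAffine U.left)
    (q : ℕ) : EtModW.IsConstructible (ULift.{u + 1} (ZMod m))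
      (((EtModW.push (ULift.{u + 1} (ZMod m)) U.hom).rightDerived q).obj
        ((ModRestr.res (ULift.{u + 1} (ZMod m)) U.hom).obj
          (EtModW.constMod (ULift.{u + 1} (ZMod m)) X (ULift.{u + 1} (ZMod m))))) := by
  have : NeZero m := ⟨hm.ne'⟩
  have h1 : QuasiCompact U.hom := quasiCompact_of_compactSpace (X := U.left) (Y := X) _
  refine isConstructible_Rpush hm f U.hom _ ?_ q
  exact Etrest.ModCons.isConstructible_of_iso (ModRestr.resConst (ULift.{u + 1} (ZMod m)) U.hom _).symm
    (ModConstFT.isConstructible_const _)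

theorem isConstructible_lm' {m : ℕ} (hm : 0 < m) {M : ℕ} {K : Type u} [Field K] [CharZero K] {X : Scheme.{u}}
    [IsNoetherian X] (f : X ⟶ SP M K) [LocallyOfFiniteType f] [QuasiCompact f] (U : X.Etale) (hU : IsAffine U.left)
    (q : ℕ) : EtModW.IsConstructible (Lam.{u} m) (((EtModW.push (Lam.{u} m) U.hom).rightDerived q).obj
      ((ModRestr.res (Lam.{u} m) U.hom).obj (EtModW.constMod (Lam.{u} m) X (Lam.{u} m)))) :=
  isConstructible_lm hm f U hU q

/-- **Constructibility of the cohomology of the dual** over power series rings. -/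
theorem isConstructible_homology_D {m : ℕ} (hm : 0 < m) {M : ℕ} {K : Type u} [Field K] [CharZero K] {X : Scheme.{u}}
    [IsNoetherian X] (f : X ⟶ SP M K) [LocallyOfFiniteType f] [QuasiCompact f]
    (F : EtModW.Mod (Lam.{u} m) X) (hF : EtModW.IsConstructible (Lam.{u} m) F) (q : ℤ) :
    EtModW.IsConstructible (Lam.{u} m)
      (((stdDual (Lam.{u} m) X).D ((CochainComplex.singleFunctor _ 0).obj F)).homology q) := by
  have : NeZero m := ⟨hm.ne'⟩
  exact DCon.isConstructible_D (stdDual (Lam.{u} m) X) (stdι (Lam.{u} m) X) (quasiIso_stdι (Lam.{u} m) X)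
    (fun U hU q => isConstructible_lm' hm f U hU q) F hF q

end Dual

end K584.HDCon
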