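import Groth.Agent.EtDepth.K584.PtBd
import Groth.Agent.EtDepth.K584.BidHull
import Groth.Agent.EtDepth.K584.HDCon

/-!
# NODE HULL
-/

set_option autoImplicit false
universe u

open CategoryTheory CategoryTheory.Limits AlgebraicGeometry Opposite

attribute [local instance 5000] CategoryTheory.Abelian.toPreadditive
  CategoryTheory.Preadditive.preadditiveHasZeroMorphisms

namespace K584.Hull

attribute [local instance] HasDerivedCategory.standard
attribute [-instance] ULift.ring
open scoped Groth.Agent.Sga4h.ModInst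
open Groth.Agent Groth.Agent.Sga4h Groth.Agent.Sga4h.Refl DerivedCategory
open Groth.Agent.Sga4h.BidIndLoc48 Groth.Agent.Sga4h.BidRed538Main
open Groth.Agent.Etdl.H434.Defs Groth.Agent.Etrest.ModAb K973.Stmt K973.BidStmt

/-- The dimension of a local ring of dimension at most `c` is a natural number. -/
theorem exists_dim (R : Type u) [CommRing R] [Nontrivial R] (c : ℕ) (h : ringKrullDim R ≤ c) :
    ∃ e : ℕ, ringKrullDim R = e ∧ e ≤ c := by
  have h0 : ringKrullDim R ≠ ⊥ := fun h1 => by
    have h2 := ringKrullDim_nonneg_of_nontrivial (R := R)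
    rw [h1] at h2
    exact absurd h2 (by decide)
  generalize ringKrullDim R = a at h h0
  induction a with
  | bot => exact absurd rfl h0
  | coe a =>
    induction a with
    | top => exact absurd (top_le_iff.1 (WithBot.coe_le_coe.1 h)) (ENat.natCast_ne_top c)
    | coe a => exact ⟨a, rfl, by exact_mod_cast h⟩

/-- **The bound.** -/
theorem isZero_hi {M : ℕ} {K : Type u} [Field K] [CharZero K] {X : Scheme.{u}} (f : X ⟶ SP M K)
    [Smooth f] [QuasiCompact f] {m : ℕ} (hm : 0 < m) (c : ℕ) (hc : ∀ x : X, ringKrullDim (X.presheaf.stalk x) ≤ c)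
    (hB : ∀ c' ≤ c, BidSP.{u} m c') (F : EtModW.Mod (Lam.{u} m) X) (hF : EtModW.IsConstructible (Lam.{u} m) F)
    (q : ℤ) (hq : (2 * c : ℤ) < q) :
    IsZero (((stdDual (Lam.{u} m) X).D ((CochainComplex.singleFunctor _ 0).obj F)).homology q) := by
  refine PtTools.isZero_of_stk _ fun x => ?_
  obtain ⟨e, he, hec⟩ := exists_dim (X.presheaf.stalk x) c (hc x)
  exact PtBd.main f hm x e he (hB e hec) F hF 0
    (fun R _ _ _ _ _ p hp => absurd hp (Nat.not_lt_zero p)) q (by push_cast; omega)

/-- **NODE HULL.** -/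
theorem main : NodeHull.{u} := by
  intro m hm M K _ _ _ X f _ _ _ c hc hB
  obtain ⟨hN, -, -, -⟩ := Hulls.exists_facts f
  have hΛ := Hulls.isNoetherianRing_lam.{u} m
  refine BidHull.bid_of_loc (stdDual (Lam.{u} m) X) (2 * c)
    (fun F hF q => HDCon.isConstructible_homology_D hm f F hF q)
    (fun F _ q hq => DCon.isZero_neg _ (stdι _ X) (quasiIso_stdι _ X) F q hq)
    (fun F hF q hq => isZero_hi f hm c hc hB F hF q hq) fun x => ?_
  obtain ⟨e, he, hec⟩ := exists_dim (X.presheaf.stalk x) c (hc x)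
  obtain ⟨K', _, _, _, g, hg, -, hl⟩ := Hulls.exists_loc f x e he hm
  exact ⟨SP e K', g, _, _, hg, hl, hB e hec K'⟩

end K584.Hull
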