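import Groth.Agent.EtDepth.K973.CoreStmt
import Groth.Agent.EtDepth.K973.RegCmp
import Groth.Agent.Etdl.H997.RegPowSer
import Groth.Agent.EtDl.K555.CdExc
import Groth.Agent.EtDl.K555.RegMor
import Groth.Agent.ParaF.K588.SHDesc
import Groth.Agent.Sga7.H732.Reg
import Groth.Agent.Etrest.StrictLoc
import Groth.Agent.Sga4h.DivEq
import Groth.Agent.S2652

/-!
# Hulls: regular morphisms from spectra of power series rings

* `exists_cpl`: the completion of a regular strictly henselian G-ring of characteristic zero;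
* `exists_hull`: for a regular excellent point `x` of codimension `c`, a strict localization `σ : Spec A ⟶ X` at `x` and
  a regular local homomorphism `β : A → K'[[x_1, …, x_c]]` with `𝔪_A` generating the maximal ideal;
* `exists_hull_of_smooth`: the points of schemes smooth over `Spec K[[x_1, …, x_M]]`;
* `exists_loc_of_smooth`: the map `g : SP c K' ⟶ X` with `BidLoc48.Loc`.
-/

set_option autoImplicit false
universe u
open CategoryTheory CategoryTheory.Limits AlgebraicGeometry Opposite IsLocalRing
attribute [local instance 5000] CategoryTheory.Abelian.toPreadditive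
  CategoryTheory.Preadditive.preadditiveHasZeroMorphisms

namespace K584.Hulls

open scoped Groth.Agent.Sga4h.ModInst
open Groth.Agent Groth.Agent.Etdl.H434.Defs Groth.Agent.EtpbcB Groth.Agent.EtpbcB.BCU
  Groth.Agent.Etrest.StrictLoc

theorem isNoetherianRing_lam (m : ℕ) : IsNoetherianRing (K973.Stmt.Lam.{u} m) := by
  have h1 : IsNoetherianRing (ZMod m) :=
    isNoetherianRing_of_surjective ℤ (ZMod m) (Int.castRingHom _) ZMod.intCast_surjective
  exact isNoetherianRing_of_ringEquiv (ZMod m) (ULift.ringEquiv (R := ZMod m)).symm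

/-- The completion of a regular strictly henselian G-ring of characteristic zero. -/
theorem exists_cpl (A : Type u) [CommRing A] [IsRegularLocalRing A] [Algebra ℚ A] (hG : CAlg.IsGRing A)
    [IsSepClosed (ResidueField A)] (c : ℕ) (hc : ringKrullDim A = c) :
    ∃ (K' : Type u) (_ : Field K') (_ : IsAlgClosed K') (_ : CharZero K')
      (β : A →+* MvPowerSeries (Fin c) K'), @CAlg.IsRegularHom A _ _ _ β.toAlgebra ∧ IsLocalHom β ∧
        (maximalIdeal A).map β = maximalIdeal (MvPowerSeries (Fin c) K') := by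
  have h1 : CAlg.IsRegularHom A (AdicCompletion (maximalIdeal A) A) :=
    (Groth.Agent.CalgB.GRing2.isGRing_iff_of_isLocalRing A).1 hG
  have hNC : IsNoetherianRing (AdicCompletion (maximalIdeal A) A) := Groth.Agent.S0543.result _ _
  have hchar : CharZero (ResidueField A) := algebraRat.charZero _
  have halg : IsAlgClosed (ResidueField A) := by
    refine IsAlgClosed.of_exists_root _ fun q _ hq => ?_
    exact IsSepClosed.exists_root q (Polynomial.degree_pos_of_irreducible hq).ne'
      (PerfectField.separable_of_irreducible hq)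
  have hfs : @Algebra.FormallySmooth ℚ (ResidueField A) _ _ (ResidueField.algebra (R₀ := ℚ) (R := A)) :=
    @Groth.Agent.CalgA.CharZeroFS.formallySmooth_of_charZero _ _ _ _ (_) _
  obtain ⟨n, e, -⟩ := Groth.Agent.CalgB.RegCompletion.exists_completion_equiv (k := ℚ) (A := A)
  have hn : n = c := by
    have h := ringKrullDim_eq_of_ringEquiv e
    rw [Groth.Agent.CalgB.RegCompletion.ringKrullDim_completion, hc,
      Groth.Agent.CalgB.PowField.ringKrullDim_eq] at h
    exact_mod_cast h.symm
  subst hn
  have hl : IsLocalHom (e : AdicCompletion (maximalIdeal A) A →+* MvPowerSeries (Fin n) (ResidueField A)) :=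
    IsLocalHom.of_surjective _ e.surjective
  have hl' : IsLocalHom (algebraMap A (AdicCompletion (maximalIdeal A) A)) := inferInstance
  refine ⟨ResidueField A, inferInstance, halg, hchar,
    (e : AdicCompletion (maximalIdeal A) A →+* _).comp (algebraMap A _), ?_,
    RingHom.isLocalHom_comp _ _, ?_⟩
  · let : Algebra A (MvPowerSeries (Fin n) (ResidueField A)) :=
      ((e : AdicCompletion (maximalIdeal A) A →+* _).comp (algebraMap A _)).toAlgebra
    exact Groth.Agent.Ega4C.GeomCompReg.isRegularHom_of_algEquiv A (AdicCompletion (maximalIdeal A) A) _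
      (AlgEquiv.ofRingEquiv (f := e) fun _ => rfl) h1
  · rw [← Ideal.map_map, ← AdicCompletion.maximalIdeal_eq_map]
    have h2 : (maximalIdeal (MvPowerSeries (Fin n) (ResidueField A))).comap
        (e : AdicCompletion (maximalIdeal A) A →+* _) = maximalIdeal (AdicCompletion (maximalIdeal A) A) :=
      IsLocalRing.maximalIdeal_comap _
    rw [← h2]
    exact Ideal.map_comap_of_surjective _ e.surjective _

theorem ubc_spec (R A : Type u) [CommRing R] [CommRing A] [IsNoetherianRing R] [IsNoetherianRing A]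
    [i : Algebra R A] (h : CAlg.IsRegularHom R A) {S : Scheme.{u}} (s : Spec (CommRingCat.of R) ⟶ S) :
    UBC S (Spec.map (CommRingCat.ofHom (algebraMap R A))) := by
  refine K555.RegMor.ubc_of_isRegularHom _ ?_ s
  have e : (algebraMap R A).toAlgebra = i := Algebra.algebra_ext _ _ fun _ => rfl
  rw [e]
  exact h

/-- **The hull at a regular excellent point.** -/
theorem exists_hull {X : Scheme.{u}} [IsLocallyNoetherian X] (qX : X ⟶ Spec (CommRingCat.of (ULift.{u} ℚ)))
    (x : X) (hexc : EGA4.IsExcellent (X.presheaf.stalk x)) [hreg : IsRegularLocalRing (X.presheaf.stalk x)]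
    (c : ℕ) (hc : ringKrullDim (X.presheaf.stalk x) = c) :
    ∃ (K' : Type u) (_ : Field K') (_ : IsAlgClosed K') (_ : CharZero K')
      (A : Type u) (_ : CommRing A) (_ : IsLocalRing A) (σ : Spec (CommRingCat.of A) ⟶ X)
      (β : A →+* MvPowerSeries (Fin c) K'), IsNoetherianRing A ∧ IsStrictLoc σ ∧ σ (closedPoint A) = x ∧
        @CAlg.IsRegularHom A _ _ _ β.toAlgebra ∧ IsLocalHom β ∧
        (maximalIdeal A).map β = maximalIdeal (MvPowerSeries (Fin c) K') ∧
        (Spec.map (CommRingCat.ofHom β) ≫ σ) (closedPoint (MvPowerSeries (Fin c) K')) = x ∧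
        ∀ {S : Scheme.{u}} (_ : X ⟶ S), UBC S (Spec.map (CommRingCat.ofHom β) ≫ σ) := by
  obtain ⟨A, _, _, _, _, hS, -⟩ := Groth.Agent.Hensel.Exist.exists_isStrictHenselization (X.presheaf.stalk x)
  have hA : EGA4.IsExcellent A := K555.CdExc.isExcellent_strictHenselization (X.presheaf.stalk x) A hexc
  have hN : IsNoetherianRing A := hA.1
  have hregA : IsRegularLocalRing A := (Groth.Agent.S2743.result (X.presheaf.stalk x) A).2 hreg
  have hsep : IsSepClosed (ResidueField A) := hS.isSepClosure.sep_closed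
  obtain ⟨φ, -⟩ := Spec.map_surjective (Hens2.specOf X x A ≫ qX)
  let _ : Algebra ℚ A := (φ.hom.comp (ULift.ringEquiv (R := ℚ)).symm.toRingHom).toAlgebra
  obtain ⟨K', _, _, _, β, hβ, hβl, hm⟩ := exists_cpl A hA.2.2.1 c
    ((Groth.Agent.S0541.result (X.presheaf.stalk x) A).trans hc)
  have hσ : (Hens2.specOf X x A) (closedPoint A) = x := by
    refine (Scheme.Hom.comp_apply (Spec.map (CommRingCat.ofHom (algebraMap (X.presheaf.stalk x) A)))
      (X.fromSpecStalk x) _).trans ?_
    exact (congrArg (X.fromSpecStalk x) (IsLocalRing.comap_closedPoint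
      (algebraMap (X.presheaf.stalk x) A))).trans Scheme.fromSpecStalk_closedPoint
  refine ⟨K', inferInstance, inferInstance, inferInstance, A, inferInstance, inferInstance,
    Hens2.specOf X x A, β, hN, isStrictLoc_specOf X x A, hσ, hβ, hβl, hm, ?_, ?_⟩
  · refine (Scheme.Hom.comp_apply (Spec.map (CommRingCat.ofHom β)) (Hens2.specOf X x A) _).trans ?_
    refine (congrArg (Hens2.specOf X x A) ?_).trans hσ
    exact IsLocalRing.comap_closedPoint β
  · intro S s
    have h1 : UBC S (X.fromSpecStalk x) := K555.RegMor.ubc_fromSpecStalk X x s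
    have h2 : UBC S (Hens2.specOf X x A) :=
      h1.comp (ubc_spec (X.presheaf.stalk x) A
        (K588.SHDesc.isRegularHom_sh (X.presheaf.stalk x) A) (X.fromSpecStalk x ≫ s))
    exact h2.comp (K555.RegMor.ubc_of_isRegularHom β hβ (Hens2.specOf X x A ≫ s))

/-- `SP M K` is excellent. -/
theorem excQ_SP (M : ℕ) (K : Type u) [Field K] [CharZero K] : K556.GoodDef.ExcQ (SP M K) := by
  have hac := Groth.Agent.CalgB.PowField.isAdicComplete K M
  let _ : Algebra ℚ (MvPowerSeries (Fin M) K) :=
    ((algebraMap K (MvPowerSeries (Fin M) K)).comp (algebraMap ℚ K)).toAlgebra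
  exact K556.GoodDef.ExcQ.spec (MvPowerSeries (Fin M) K)
    (@Groth.Agent.S2652.result (MvPowerSeries (Fin M) K) _ _ _ hac)

theorem isRegularLocalRing_SP (M : ℕ) (K : Type u) [Field K] : Models.IsRegularScheme (SP M K) := by
  intro x
  have h := Groth.Agent.CalgB.PowField.isRegularLocalRing (K := K) (d := M)
  have h2 : IsRegularRing (MvPowerSeries (Fin M) K) :=
    Groth.Agent.CalgB.GeomRegIff.isRegularRing_of_isRegularLocalRing _
  have hp : (PrimeSpectrum.asIdeal (R := MvPowerSeries (Fin M) K) x).IsPrime := PrimeSpectrum.isPrime _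
  rw [Groth.Agent.Sga4h.DivEq.isRegularLocalRing_stalk_iff]
  infer_instance

/-- Facts on schemes smooth over `SP M K`. -/
theorem exists_facts {M : ℕ} {K : Type u} [Field K] [CharZero K] {X : Scheme.{u}} (f : X ⟶ SP M K)
    [Smooth f] [QuasiCompact f] :
    IsNoetherian X ∧ Nonempty (X ⟶ Spec (CommRingCat.of (ULift.{u} ℚ))) ∧
      (∀ x : X, EGA4.IsExcellent (X.presheaf.stalk x)) ∧ ∀ x : X, IsRegularLocalRing (X.presheaf.stalk x) := by
  have hS := excQ_SP M K
  have hX : K556.GoodDef.ExcQ X := hS.of_finiteType f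
  have hN : IsLocallyNoetherian (SP M K) := hS.noeth.toIsLocallyNoetherian
  exact ⟨hX.noeth, hX.rat, fun x => K555.CdExc.isExcellent_stalk hX.exc x,
    Groth.Agent.Sga7.H732.Reg.isRegularScheme_of_smooth f (isRegularLocalRing_SP M K)⟩

/-- **The hull at a point of a scheme smooth over `SP M K`**, with the comparison of duality. -/
theorem exists_loc {M : ℕ} {K : Type u} [Field K] [CharZero K] {X : Scheme.{u}} (f : X ⟶ SP M K)
    [Smooth f] [QuasiCompact f] (x : X) (c : ℕ) (hc : ringKrullDim (X.presheaf.stalk x) = c) {m : ℕ} (hm : 0 < m) :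
    ∃ (K' : Type u) (_ : Field K') (_ : IsAlgClosed K') (_ : CharZero K') (g : SP c K' ⟶ X),
      g (closedPoint (MvPowerSeries (Fin c) K')) = x ∧
      (∀ {S : Scheme.{u}} (_ : X ⟶ S), UBC S g) ∧
      Groth.Agent.Sga4h.BidLoc48.Loc (Groth.Agent.Sga4h.BidRed538Main.stdDual (K973.Stmt.Lam.{u} m) X)
        (Groth.Agent.Sga4h.BidRed538Main.stdDual (K973.Stmt.Lam.{u} m) (SP c K')) g := by
  obtain ⟨hN, ⟨qX⟩, hexc, hreg⟩ := exists_facts f
  have := hreg x
  obtain ⟨K', _, _, _, A, _, _, σ, β, -, -, -, -, -, -, hg, hU⟩ := exists_hull qX x (hexc x) c hc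
  refine ⟨K', inferInstance, inferInstance, inferInstance, Spec.map (CommRingCat.ofHom β) ≫ σ, hg,
    fun s => hU s, ?_⟩
  have hΛ : IsNoetherianRing (K973.Stmt.Lam.{u} m) := isNoetherianRing_lam m
  refine K973.RegCmp.loc_of_bcMor (n := m) (S := Spec (CommRingCat.of (ULift.{u} ℚ))) _ hN ?_ ?_ (hU qX).bcMor
  · have h0 : IsUnit ((m : ℕ) : ULift.{u} ℚ) := by
      have h1 : ((m : ℕ) : ℚ) ≠ 0 := Nat.cast_ne_zero.2 hm.ne'
      have h2 := (isUnit_iff_ne_zero.2 h1).map (ULift.ringEquiv (R := ℚ)).symm
      rwa [map_natCast] at h2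
    have h1 := h0.map (Scheme.ΓSpecIso (CommRingCat.of (ULift.{u} ℚ))).inv.hom
    rwa [map_natCast] at h1
  · exact congrArg ULift.up (ZMod.natCast_self m)

end K584.Hulls
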