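import Groth.Agent.EtDual.K336.StrictAbs

/-!
# Local duality: the vanishing of the cohomology of the dual, abstractly

In the situation of `K336.StrictAbs.local_dual`: `Hom(P, K[c - b]) = 0` implies `Hom(H^b (D K), P) = 0`.
-/

set_option autoImplicit false
set_option backward.defeqAttrib.useBackward true
set_option backward.isDefEq.respectTransparency false

universe w w' v₁ u₁

namespace K584.LDAbs

open CategoryTheory Category Limits HomologicalComplex CochainComplex Opposite ZeroObject Pretriangulated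
open Groth.Agent.Sga4h.DualCx Groth.Agent.Sga4h.DualSelf Groth.Agent.Sga4h.Refl
open Groth.Agent.Sga4h Groth.Agent.Sga4h.BidGlobU DerivedCategory Groth.Agent.EtDual.K336.StrictAbs

variable {C : Type u₁} [Category.{v₁} C] [Abelian C] [HasDerivedCategory.{w} C]

section

variable {T : C ⥤ C ⥤ C} [T.Additive]
  [∀ X, (T.obj X).Additive]
  [∀ (K₁ K₂ : CochainComplex C ℤ), CochainComplex.HasMapBifunctor K₁ K₂ T]
  [∀ E : CochainComplex C ℤ, (T.map₂CochainComplex.flip.obj E).IsLeftAdjoint]
  [∀ (J : Type), HasColimitsOfShape (Discrete J) C]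
  [∀ (J : Type), (colim : (Discrete J ⥤ C) ⥤ C).PreservesMonomorphisms]
  (A : DualData T) {I P : C} [Projective I] [Injective P] {n : ℕ}
  (hP : ∀ F : C, Nonempty ((F ⟶ P) ≃+ ((I ⟶ F) →+ ZMod n))) {c : ℤ}
  (hc : Nonempty (Q.obj (A.D ((CochainComplex.singleFunctor C 0).obj P)) ≅
    (Q.obj ((CochainComplex.singleFunctor C 0).obj P))⟦-c⟧))

include hP hc in
theorem subsingleton_hom (K : CochainComplex C ℤ) (hK : A.Refl K) (b : ℤ)
    (h : Subsingleton ((DerivedCategory.singleFunctor C 0).obj P ⟶ (Q.obj K)⟦c - b⟧)) :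
    Subsingleton ((A.D K).homology b ⟶ P) := by
  obtain ⟨e1⟩ := local_dual A hP hc K hK (c - b)
  rw [show c - (c - b) = b by lia] at e1
  obtain ⟨e2⟩ := hP ((DerivedCategory.homologyFunctor C b).obj (Q.obj (A.D K)))
  obtain ⟨e3⟩ := nonempty_homProj I (Q.obj (A.D K)) b
  have h1 : Subsingleton ((I ⟶ (DerivedCategory.homologyFunctor C b).obj (Q.obj (A.D K))) →+ ZMod n) :=
    ((AddEquiv.addMonoidHomCongrLeft e3).symm.trans e1.symm).injective.subsingleton
  have h2 : Subsingleton ((DerivedCategory.homologyFunctor C b).obj (Q.obj (A.D K)) ⟶ P) :=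
    e2.injective.subsingleton
  have h3 : Subsingleton ((Q ⋙ DerivedCategory.homologyFunctor C b).obj (A.D K) ⟶ P) := h2
  exact (homAddCongr ((homologyFunctorFactors C b).app (A.D K)).symm (Iso.refl P)).injective.subsingleton

end

/-- `Hom(P, F[i]) = 0` for `i < n` if `Ext^i(P, F) = 0` for `i < n`. -/
theorem subsingleton_single [HasExt.{w'} C] (P F : C) (n : ℕ)
    (h : ∀ i : ℕ, i < n → Subsingleton (Abelian.Ext.{w'} P F i)) (i : ℤ) (hi : i < n) :
    Subsingleton ((DerivedCategory.singleFunctor C 0).obj P ⟶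
      (Q.obj ((CochainComplex.singleFunctor C 0).obj F))⟦i⟧) := by
  have e0 : (DerivedCategory.singleFunctor C 0).obj F ≅ Q.obj ((CochainComplex.singleFunctor C 0).obj F) :=
    (DerivedCategory.singleFunctorIsoCompQ C 0).app F
  suffices h1 : Subsingleton ((DerivedCategory.singleFunctor C 0).obj P ⟶
      ((DerivedCategory.singleFunctor C 0).obj F)⟦i⟧) from
    (homAddCongr (Iso.refl _) ((CategoryTheory.shiftFunctor _ i).mapIso e0.symm)).injective.subsingleton
  by_cases h0 : i < 0
  · refine ⟨fun a b => ?_⟩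
    have hz : ∀ f : (DerivedCategory.singleFunctor C 0).obj P ⟶
        ((DerivedCategory.singleFunctor C 0).obj F)⟦i⟧, f = 0 := fun f => by
      have h2 : (((DerivedCategory.singleFunctor C 0).obj F)⟦i⟧).IsGE (-i) :=
        DerivedCategory.TStructure.t.isGE_shift _ 0 i (-i) (by lia)
      exact DerivedCategory.TStructure.t.zero f 0 (-i) (by lia)
    rw [hz a, hz b]
  · obtain ⟨k, rfl⟩ := Int.eq_ofNat_of_zero_le (not_lt.1 h0)
    have h2 := h k (by exact_mod_cast hi)
    exact (Abelian.Ext.homEquiv (C := C) (X := P) (Y := F) (n := k)).symm.injective.subsingleton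

end K584.LDAbs
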