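import Groth.Agent.EtDepth.K584.Del
import Groth.Agent.Etbc.H215.TrdegSH
import Groth.Agent.Etbc.H236.WeField
import Groth.Agent.Proet.WEtaleScheme
import Groth.Agent.S0754
import Groth.Prelude.Def_Hens2

/-!
# The dimension function at the points of a scheme over `Spec A`
-/

set_option autoImplicit false
universe u
open CategoryTheory CategoryTheory.Limits AlgebraicGeometry Opposite IsLocalRing TensorProduct

namespace K584.Pt

open Groth.Agent.CycB.TrdegAlg Groth.Agent.EtpbcA.Artin Groth.Agent.Etbc.H215 K584.Del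

/-- `dim (A / p) + trdeg (κ(x) / κ(p)) ≤ d`, `p` the image of `x`. -/
def PtLE {A : Type u} [CommRing A] {X : Scheme.{u}} (f : X ⟶ Spec (CommRingCat.of A)) (x : X) (d : ℕ) : Prop :=
  DelLE (Spec.preimage (X.fromSpecResidueField x ≫ f)).hom d

section basic

variable {A : Type u} [CommRing A] {X W : Scheme.{u}} (f : X ⟶ Spec (CommRingCat.of A))

theorem ptLE_iff (x : X) (d : ℕ) (φ : A →+* X.residueField x)
    (hφ : Spec.map (CommRingCat.ofHom φ) = X.fromSpecResidueField x ≫ f) : PtLE f x d ↔ DelLE φ d := by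
  have h1 : CommRingCat.ofHom φ = Spec.preimage (X.fromSpecResidueField x ≫ f) :=
    Spec.map_injective (hφ.trans (Spec.map_preimage _).symm)
  have h2 : φ = (Spec.preimage (X.fromSpecResidueField x ≫ f)).hom := congrArg CommRingCat.Hom.hom h1
  rw [PtLE, ← h2]

theorem exists_map (x : X) : ∃ φ : A →+* X.residueField x,
    Spec.map (CommRingCat.ofHom φ) = X.fromSpecResidueField x ≫ f := by
  refine ⟨(Spec.preimage (X.fromSpecResidueField x ≫ f)).hom, ?_⟩
  rw [CommRingCat.ofHom_hom, Spec.map_preimage]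

theorem PtLE.mono {f : X ⟶ Spec (CommRingCat.of A)} {x : X} {d e : ℕ} (h : PtLE f x d) (hde : d ≤ e) :
    PtLE f x e := DelLE.mono h hde

theorem trd_eq_zero_of_isIntegral {κ L : Type u} [Field κ] [Field L] (ψ : κ →+* L) (h : ψ.IsIntegral) :
    trd ψ = 0 := by
  let _ := ψ.toAlgebra
  have : Algebra.IsIntegral κ L := ⟨h⟩
  exact trdeg_eq_zero

/-- Passage along a morphism with algebraic residue extension. -/
theorem ptLE_comp_iff (h : W ⟶ X) (w : W) (hw : AlgAt h w) (d : ℕ) :
    PtLE (h ≫ f) w d ↔ PtLE f (h w) d := by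
  obtain ⟨φ, hφ⟩ := exists_map f (h w)
  have h2 : Spec.map (CommRingCat.ofHom ((h.residueFieldMap w).hom.comp φ)) =
      W.fromSpecResidueField w ≫ h ≫ f := by
    rw [← Category.assoc, ← Scheme.Hom.SpecMap_residueFieldMap_fromSpecResidueField, Category.assoc, ← hφ,
      ← Spec.map_comp]
    rfl
  rw [ptLE_iff (h ≫ f) w d _ h2, ptLE_iff f (h w) d φ hφ]
  exact delLE_comp_iff φ (h.residueFieldMap w).hom (RingHom.injective _) (trd_eq_zero_of_isIntegral _ hw) d

end basic

/-- The affine case. -/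
theorem ptLE_Spec_iff {A B : Type u} [CommRing A] [CommRing B] (g : A →+* B) (t : Spec (CommRingCat.of B))
    (d : ℕ) : PtLE (Spec.map (CommRingCat.ofHom g)) t d ↔
      DelLE ((Ideal.Quotient.mk (PrimeSpectrum.asIdeal (R := B) t)).comp g) d := by
  obtain ⟨σ, hσ, hgen, hker⟩ := TrdegSH.exists_residue B t
  have h : Spec.map (CommRingCat.ofHom (σ.comp g)) =
      (Spec (CommRingCat.of B)).fromSpecResidueField t ≫ Spec.map (CommRingCat.ofHom g) := by
    rw [CommRingCat.ofHom_comp, Spec.map_comp, hσ]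
  rw [ptLE_iff _ t d _ h]
  exact delLE_fracGen_iff g _ σ hker hgen d

/-- The image ideal of a point. -/
theorem ker_eq {A : Type u} [CommRing A] {X : Scheme.{u}} (f : X ⟶ Spec (CommRingCat.of A)) (x : X)
    (φ : A →+* X.residueField x)
    (hφ : Spec.map (CommRingCat.ofHom φ) = X.fromSpecResidueField x ≫ f) :
    RingHom.ker φ = PrimeSpectrum.asIdeal (R := A) (f x) := by
  have h1 : Spec.map (CommRingCat.ofHom φ) (⊥ : PrimeSpectrum (X.residueField x)) = f x := by
    rw [hφ, Scheme.Hom.comp_apply, Scheme.fromSpecResidueField_apply]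
  have h2 : Ideal.comap φ ⊥ = PrimeSpectrum.asIdeal (R := A) (f x) := congrArg PrimeSpectrum.asIdeal h1
  rw [← h2, RingHom.ker_eq_comap_bot]

/-- The dimension bound. -/
theorem ringKrullDim_le_of_ptLE {A : Type u} [CommRing A] {X : Scheme.{u}} (f : X ⟶ Spec (CommRingCat.of A))
    (x : X) (d : ℕ) (h : PtLE f x d) : ringKrullDim (A ⧸ PrimeSpectrum.asIdeal (R := A) (f x)) ≤ d := by
  obtain ⟨φ, hφ⟩ := exists_map f x
  rw [ptLE_iff f x d φ hφ] at h
  obtain ⟨a, b, h1, h2, -⟩ := h
  rw [ker_eq f x φ hφ] at h2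
  refine h2.trans ?_
  exact_mod_cast (show a ≤ d by omega)

/-- The comparison with a strict localization of `Spec B`, `B` of finite type over `A`. -/
theorem exists_pt {A B : Type u} [CommRing A] [IsNoetherianRing A] [IsLocalRing A] [CommRing B]
    (g : A →+* B) (hg : g.FiniteType) (t : Spec (CommRingCat.of B)) (R : Type u) [CommRing R] [IsLocalRing R]
    [Algebra ((Spec (CommRingCat.of B)).presheaf.stalk t) R]
    [IsLocalHom (algebraMap ((Spec (CommRingCat.of B)).presheaf.stalk t) R)]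
    [Hensel.IsStrictHenselization ((Spec (CommRingCat.of B)).presheaf.stalk t) R] :
    ∃ e : ℕ, PtLE (Spec.map (CommRingCat.ofHom g)) t e ∧
      ∀ (W : Scheme.{u}) (c : W ⟶ Spec (CommRingCat.of R)) (w : W) (D : ℕ),
        PtLE (c ≫ Hens2.specOf (Spec (CommRingCat.of B)) t R ≫ Spec.map (CommRingCat.ofHom g)) w D →
          e ≤ D ∧ PtLE c w (D - e) := by
  let S : Type u := (Spec (CommRingCat.of B)).presheaf.stalk t
  let _ : Algebra B S := StructureSheaf.stalkAlgebra B t
  have hloc : IsLocalization.AtPrime S (PrimeSpectrum.asIdeal (R := B) t) :=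
    StructureSheaf.IsLocalization.to_stalk B t
  obtain ⟨e, he, H⟩ := exists_del (S := S) (R := R) g hg (PrimeSpectrum.asIdeal (R := B) t)
  refine ⟨e, (ptLE_Spec_iff g t e).2 he, ?_⟩
  intro W c w D hD
  obtain ⟨χ, hχ⟩ := exists_map c w
  have h2 : Spec.map (CommRingCat.ofHom (χ.comp (((algebraMap S R).comp (algebraMap B S)).comp g))) =
      W.fromSpecResidueField w ≫ c ≫ Hens2.specOf (Spec (CommRingCat.of B)) t R ≫
        Spec.map (CommRingCat.ofHom g) := by
    rw [CommRingCat.ofHom_comp, CommRingCat.ofHom_comp, CommRingCat.ofHom_comp, Spec.map_comp,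
      Spec.map_comp, Spec.map_comp, hχ, Hens2.specOf, Spec.fromSpecStalk_eq']
    simp only [Category.assoc]
    rfl
  rw [ptLE_iff _ w D _ h2] at hD
  obtain ⟨h3, h4⟩ := H _ χ D hD
  exact ⟨h3, (ptLE_iff c w _ χ hχ).2 h4⟩

section we

/-- Weakly étale algebras over a ring: the residue extensions are algebraic. -/
theorem isIntegral_of_fracGen {B C κ L : Type u} [CommRing B] [CommRing C] [Field κ] [Field L]
    [Algebra B C] [Algebra.WeaklyEtale B C] (α : B →+* κ) (σ : C →+* L) (hσ : FracGen σ) (θ : κ →+* L)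
    (comm : θ.comp α = σ.comp (algebraMap B C)) : θ.IsIntegral := by
  let _ : Algebra B κ := α.toAlgebra
  have hwe : Algebra.WeaklyEtale κ (κ ⊗[B] C) := inferInstance
  have hint : Algebra.IsIntegral κ (κ ⊗[B] C) :=
    Groth.Agent.Etbc.H236.WeField.isIntegral_of_weaklyEtale κ (κ ⊗[B] C)
  let _ : Algebra κ L := θ.toAlgebra
  let _ : Algebra B L := (σ.comp (algebraMap B C)).toAlgebra
  have : IsScalarTower B κ L := IsScalarTower.of_algebraMap_eq fun x =>
    (RingHom.congr_fun comm x).symm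
  let σ' : C →ₐ[B] L := { σ with commutes' := fun r => rfl }
  let Ψ : κ ⊗[B] C →ₐ[κ] L := Algebra.TensorProduct.lift (Algebra.ofId κ L) σ' fun _ _ => mul_comm _ _
  have hΨ : ∀ s : C, IsIntegral κ (σ s) := by
    intro s
    have h1 : Ψ (1 ⊗ₜ s) = σ s := by
      simp only [Ψ, Algebra.TensorProduct.lift_tmul, map_one, one_mul]
      rfl
    rw [← h1]
    exact (hint.isIntegral _).map Ψ
  intro z
  obtain ⟨a, b, hb, hab⟩ := hσ z
  have h1 : z = σ a * (σ b)⁻¹ := by rw [← hab, mul_assoc, mul_inv_cancel₀ hb, mul_one]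
  rw [h1]
  exact (hΨ a).mul (hΨ b).inv

/-- Weakly étale morphisms of affine schemes have algebraic residue extensions. -/
theorem algAt_of_weaklyEtale {B C : Type u} [CommRing B] [CommRing C] (φ : B →+* C)
    (h : WeaklyEtale (Spec.map (CommRingCat.ofHom φ))) (y : Spec (CommRingCat.of C)) :
    AlgAt (Spec.map (CommRingCat.ofHom φ)) y := by
  let _ : Algebra B C := φ.toAlgebra
  have hwe : Algebra.WeaklyEtale B C :=
    (Groth.Agent.Proet.WEtaleScheme.weaklyEtale_Spec_iff B C).1 h
  obtain ⟨σ, hσ, hgen, -⟩ := TrdegSH.exists_residue C y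
  obtain ⟨α, hα, -, -⟩ := TrdegSH.exists_residue B (Spec.map (CommRingCat.ofHom φ) y)
  refine isIntegral_of_fracGen (B := B) (C := C) α σ hgen
    ((Spec.map (CommRingCat.ofHom φ)).residueFieldMap y).hom ?_
  have h1 : Spec.map (CommRingCat.ofHom (((Spec.map (CommRingCat.ofHom φ)).residueFieldMap y).hom.comp α)) =
      Spec.map (CommRingCat.ofHom (σ.comp (algebraMap B C))) := by
    rw [CommRingCat.ofHom_comp, CommRingCat.ofHom_comp, Spec.map_comp, Spec.map_comp, hσ, hα,
      CommRingCat.ofHom_hom]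
    exact Scheme.Hom.SpecMap_residueFieldMap_fromSpecResidueField _ _
  exact congrArg CommRingCat.Hom.hom (Spec.map_injective h1)

theorem AlgAt.of_comp {W X Z : Scheme.{u}} {h : W ⟶ X} {k : X ⟶ Z} {w : W}
    (h1 : AlgAt (h ≫ k) w) : AlgAt h w := by
  have e := Scheme.residueFieldMap_comp h k w
  have h3 : ((h.residueFieldMap w).hom.comp (k.residueFieldMap (h w)).hom).IsIntegral :=
    (congrArg (fun t : (Z.residueField (k (h w)) ⟶ W.residueField w) => t.hom.IsIntegral) e).mp h1
  exact RingHom.IsIntegral.tower_top _ _ h3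

end we

end K584.Pt
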