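import Groth.Agent.EtDepth.K584.Van
import Groth.Agent.EtDepth.K584.Pt
import Groth.Agent.Etdl.H435.Fibre
import Groth.Agent.Etdl.H435.P1Arg
import Groth.Agent.EtpbcA.P1Charts
import Groth.Agent.S0125
import Groth.Agent.S0537
import Groth.Agent.S3506

/-!
# The affine line over an excellent strictly henselian local ring of characteristic zero
-/

set_option autoImplicit false
universe u
open CategoryTheory CategoryTheory.Limits AlgebraicGeometry Opposite IsLocalRing TopologicalSpace

namespace K584.Line

open Groth.Agent Groth.Agent.EtpbcA Groth.Agent.EtpbcA.Artin Groth.Agent.EtpbcB Groth.Agent.Etdl.H435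
  P1Charts K584.Del K584.Pt Groth.Agent.Etbc.H215

theorem not_mem_supp_kernel_unit {Z X : Scheme.{u}} (i : Z ⟶ X) [IsClosedImmersion i] (F : EtCoh.Ab X) (z : Z) :
    i z ∉ EtPBC.supp (kernel (ClosedRes.η i F)) := by
  have h1 := ClosedEpi.isIso_pull_unit i F
  have h2 : IsZero ((EtCoh.pull i).obj (kernel (ClosedRes.η i F))) :=
    CurvesA.GenSupp.isZero_pull_kernel i (ClosedRes.η i F)
  have h3 := supp_eq_empty_of_isZero h2 z
  rw [supp_pull] at h3
  exact h3

theorem cohDimLE_field (κ : Type u) [Field κ] [IsSepClosed κ] :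
    EtCoh.CohDimLE (Spec (CommRingCat.of κ)) 0 := by
  have h1 : IsSepClosed (ResidueField κ) := by
    have h2 : Function.Bijective (residue κ) := ⟨RingHom.injective _, residue_surjective⟩
    exact Groth.Agent.EtpbcB.StrHensEquiv.isSepClosed_of_ringEquiv (RingEquiv.ofBijective _ h2)
  exact FinLem.cohDimLE_zero κ

/-- The special fibre. -/
theorem special (A : Type u) [CommRing A] [IsLocalRing A] [IsSepClosed (ResidueField A)]
    (F : EtCoh.Ab (Spec (CommRingCat.of (Polynomial A)))) (hF : EtCoh.IsTorsion F) (D : ℕ)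
    (hδ : ∀ v ∈ EtPBC.supp F, PtLE (Spec.map (CommRingCat.ofHom (Polynomial.C : A →+* Polynomial A))) v D)
    (q : ℕ) (hq : D < q) :
    Subsingleton (EtCoh.H _ ((EtCoh.pull (Spec.map (CommRingCat.ofHom
      (Polynomial.mapRingHom (residue A))))).obj F) q) := by
  let i : Spec (CommRingCat.of (Polynomial (ResidueField A))) ⟶ Spec (CommRingCat.of (Polynomial A)) :=
    Spec.map (CommRingCat.ofHom (Polynomial.mapRingHom (residue A)))
  have hi : IsClosedImmersion i := IsClosedImmersion.spec_of_surjective _
    (Polynomial.map_surjective (residue A) residue_surjective)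
  let pκ : Spec (CommRingCat.of (Polynomial (ResidueField A))) ⟶ Spec (CommRingCat.of (ResidueField A)) :=
    Spec.map (CommRingCat.ofHom (Polynomial.C : ResidueField A →+* Polynomial (ResidueField A)))
  have hlft : LocallyOfFiniteType pκ := locallyOfFiniteType_pr (CommRingCat.of (ResidueField A))
  refine Groth.Agent.S3506.result (ResidueField A) _ pκ D 0 (cohDimLE_field _) _
    (Etcore.Torsion.isTorsion_pull _ F hF) ?_ q (by omega)
  intro x hx
  rw [supp_pull] at hx
  have h1 := hδ _ hx
  rw [← ptLE_comp_iff _ i x (algAt_of_surjectiveOnStalks i x)] at h1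
  obtain ⟨φ, hφ⟩ := exists_map (A := ResidueField A) pκ x
  have h2 : Spec.map (CommRingCat.ofHom (φ.comp (residue A))) =
      (Spec (CommRingCat.of (Polynomial (ResidueField A)))).fromSpecResidueField x ≫ i ≫
        Spec.map (CommRingCat.ofHom (Polynomial.C : A →+* Polynomial A)) := by
    rw [CommRingCat.ofHom_comp, Spec.map_comp, hφ, Category.assoc, ← Spec.map_comp, ← Spec.map_comp,
      ← CommRingCat.ofHom_comp, ← CommRingCat.ofHom_comp]
    congr 3
    ext a
    simp
  rw [ptLE_iff _ x D _ h2] at h1
  obtain ⟨a, b, hab, -, hb⟩ := h1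
  rw [tr_comp_of_surjective (residue A) residue_surjective, tr_of_injective φ φ.injective] at hb
  rw [TrdegSH.resTrdegLE_iff' pκ x D φ hφ]
  exact hb.trans (by exact_mod_cast (show b ≤ D by omega))

/-- Excellence of the strict henselizations of the local rings of `Spec A[X]`. -/
theorem isExcellent_sh {A B : Type u} [CommRing A] [CommRing B] [Algebra A B] [Algebra.FiniteType A B]
    (hA : EGA4.IsExcellent A) (t : Spec (CommRingCat.of B)) (R : Type u) [CommRing R] [IsLocalRing R]
    [Algebra ((Spec (CommRingCat.of B)).presheaf.stalk t) R]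
    [IsLocalHom (algebraMap ((Spec (CommRingCat.of B)).presheaf.stalk t) R)]
    [Hensel.IsStrictHenselization ((Spec (CommRingCat.of B)).presheaf.stalk t) R] : EGA4.IsExcellent R := by
  have hB : EGA4.IsExcellent B := Groth.Agent.S2651.result A hA B
  let S : Type u := (Spec (CommRingCat.of B)).presheaf.stalk t
  let _ : Algebra B S := StructureSheaf.stalkAlgebra B t
  have hloc : IsLocalization.AtPrime S (PrimeSpectrum.asIdeal (R := B) t) :=
    StructureSheaf.IsLocalization.to_stalk B t
  have hS : EGA4.IsExcellent S :=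
    K555.CdExc.isExcellent_of_isLocalization B S (PrimeSpectrum.asIdeal (R := B) t).primeCompl hB
  exact K555.CdExc.isExcellent_strictHenselization S R hS

/-- The local vanishing. -/
theorem not_mem_supp_open (A : Type u) [CommRing A] [IsLocalRing A] [Algebra ℚ A]
    (hA : EGA4.IsExcellent A) {U : Scheme.{u}} (j : U ⟶ Spec (CommRingCat.of (Polynomial A)))
    [IsOpenImmersion j] [QuasiCompact j]
    (hj : ∀ v : Spec (CommRingCat.of (Polynomial A)), v ∈ Set.range j ↔
      (Polynomial.X : Polynomial A) ∉ PrimeSpectrum.asIdeal (R := Polynomial A) v)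
    (M : EtCoh.Ab U) (hM : EtCoh.IsTorsion M) (D : ℕ)
    (hδ : ∀ u ∈ EtPBC.supp M,
      PtLE (j ≫ Spec.map (CommRingCat.ofHom (Polynomial.C : A →+* Polynomial A))) u D)
    (w : Spec (CommRingCat.of (Polynomial A))) (q : ℕ) (hq : D < q) :
    w ∉ EtPBC.supp ((EtCoh.Rpush j q).obj M) := by
  have hAN : IsNoetherianRing A := hA.1
  let S : Type u := (Spec (CommRingCat.of (Polynomial A))).presheaf.stalk w
  obtain ⟨R, _, _, _, _, hSH⟩ := Groth.Agent.S0537.result S
  have hH : HenselianLocalRing R := Hensel.IsStrictHenselization.henselian (R := S)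
  have hsep : IsSepClosed (ResidueField R) :=
    (Hensel.IsStrictHenselization.isSepClosure (R := S) (S := R)).sep_closed
  have hR : EGA4.IsExcellent R := isExcellent_sh hA w R
  let _ : Algebra (Polynomial A) S := StructureSheaf.stalkAlgebra (Polynomial A) w
  let φ : Polynomial A →+* R := (algebraMap S R).comp (algebraMap (Polynomial A) S)
  have hspec : Spec.map (CommRingCat.ofHom φ) = Hens2.specOf (Spec (CommRingCat.of (Polynomial A))) w R := by
    rw [CommRingCat.ofHom_comp, Spec.map_comp, Hens2.specOf, Spec.fromSpecStalk_eq']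
    rfl
  let _ : Algebra ℚ R := (φ.comp ((Polynomial.C : A →+* Polynomial A).comp (algebraMap ℚ A))).toAlgebra
  obtain ⟨g, hg⟩ := Glue.exists_isPullback_basicOpen φ (Polynomial.X : Polynomial A) j hj
    (Localization.Away (φ Polynomial.X))
  rw [not_mem_supp_Rpush_iff j M q w R, ← hspec, PBCVan.van_iff hg M q]
  refine Van.van_of_supp_dim R hR (φ Polynomial.X) (Localization.Away (φ Polynomial.X)) D _
    (Etcore.Torsion.isTorsion_pull _ M hM) ?_ q hq
  intro y hy
  rw [supp_pull] at hy
  have h1 := hδ _ hy
  let ι : Spec (CommRingCat.of (Localization.Away (φ Polynomial.X))) ⟶ Spec (CommRingCat.of R) :=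
    Spec.map (CommRingCat.ofHom (algebraMap R (Localization.Away (φ Polynomial.X))))
  have hι : IsOpenImmersion ι := IsOpenImmersion.of_isLocalization (φ Polynomial.X)
  have hw : g ≫ j = ι ≫ Spec.map (CommRingCat.ofHom φ) := hg.w
  have hwe : WeaklyEtale (Spec.map (CommRingCat.ofHom φ)) := by
    rw [hspec]
    exact Groth.Agent.S0754.result _ w R
  have halg : AlgAt g y := by
    refine AlgAt.of_comp (k := j) ?_
    rw [hw]
    exact AlgAt.comp (algAt_of_surjectiveOnStalks ι y) (algAt_of_weaklyEtale φ hwe (ι y))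
  rw [← ptLE_comp_iff _ g y halg, ← Category.assoc, hw, Category.assoc, hspec] at h1
  obtain ⟨e, -, H⟩ := exists_pt (Polynomial.C : A →+* Polynomial A)
    (RingHom.finiteType_algebraMap.2 (inferInstanceAs (Algebra.FiniteType A (Polynomial A)))) w R
  have h2 := ringKrullDim_le_of_ptLE ι y _ (H _ ι y D h1).2
  refine h2.trans ?_
  exact_mod_cast (show D - e ≤ D by omega)

/-- The support of the direct image along an open immersion. -/
theorem mem_supp_push_iff {U X : Scheme.{u}} (j : U ⟶ X) [IsOpenImmersion j] (F : EtCoh.Ab U) (w : U) :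
    j w ∈ EtPBC.supp ((EtCoh.push j).obj F) ↔ w ∈ EtPBC.supp F := by
  have e1 : (EtCoh.Rpush j 0).obj F ≅ (EtCoh.push j).obj F := (EtCoh.push j).rightDerivedZeroIsoSelf.app F
  have e2 : (EtCoh.Rpush (𝟙 U) 0).obj ((EtCoh.pull (𝟙 U)).obj F) ≅ (EtCoh.pull (𝟙 U)).obj F :=
    ((EtCoh.push (𝟙 U)).rightDerivedZeroIsoSelf ≪≫ PullFLC.pushId U).app _
  rw [← supp_congr e1, mem_supp_Rpush_iff_of_isPullback j j (𝟙 U) (𝟙 U) (IsKernelPair.id_of_mono j) F 0 w,
    supp_congr e2, supp_pull]
  rfl

/-- Sheaves on the line without support on the special fibre. -/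
theorem generic (A : Type u) [CommRing A] [HenselianLocalRing A] [IsSepClosed (ResidueField A)] [Algebra ℚ A]
    (hA : EGA4.IsExcellent A) (F : EtCoh.Ab (Spec (CommRingCat.of (Polynomial A)))) (hF : EtCoh.IsTorsion F)
    (D : ℕ)
    (hδ : ∀ v ∈ EtPBC.supp F, PtLE (Spec.map (CommRingCat.ofHom (Polynomial.C : A →+* Polynomial A))) v D)
    (hoff : ∀ v ∈ EtPBC.supp F,
      Spec.map (CommRingCat.ofHom (Polynomial.C : A →+* Polynomial A)) v ≠ closedPoint A)
    (q : ℕ) (hq : D < q) : Subsingleton (EtCoh.H _ F q) := by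
  let B : CommRingCat.{u} := CommRingCat.of A
  have hprop : IsProper (toB B) := Groth.Agent.Dix.ProjProper.isProper_toBase 1 (Spec B)
  have hqc : QuasiCompact (chart 0 B) := quasiCompact_chart 0 B
  let _ : CharZero (ResidueField A) :=
    charZero_of_injective_algebraMap ((residue A).comp (algebraMap ℚ A)).injective
  let K : Type u := ResidueField A
  have hK : IsAlgClosed K := inferInstance
  let π : A →+* K := residue A
  have hπ : Function.Surjective π := residue_surjective
  let ξ : Spec (CommRingCat.of K) ⟶ Spec B := Spec.map (CommRingCat.ofHom π)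
  have hξ : Set.range ξ = {closedPoint A} := P1Arg.range_ξ π hπ
  have hfst : ∀ x : (pullback (toB B) ξ : Scheme.{u}), toB B (pullback.fst (toB B) ξ x) = closedPoint A := by
    intro x
    rw [← Scheme.Hom.comp_apply, pullback.condition, Scheme.Hom.comp_apply]
    exact P1Arg.ξ_apply π hπ _
  have hpush : ∀ x : (pullback (toB B) ξ : Scheme.{u}),
      pullback.fst (toB B) ξ x ∈ EtPBC.supp ((EtCoh.push (chart 0 B)).obj F) →
      pullback.fst (toB B) ξ x ∉ Set.range (chart 0 B) := by
    rintro x hx ⟨w, hw⟩
    rw [← hw] at hx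
    have h1 := (mem_supp_push_iff (chart 0 B) F w).1 hx
    refine hoff w h1 ?_
    rw [← hfst x, ← hw, ← Scheme.Hom.comp_apply, chart_toB]
  refine CdEtLeray.H_subsingleton_of_leray (chart 0 B) F q ?_ ?_
  · exact Fibre.H_subsingleton_of_supp (toB B) ξ hξ _ (RpushTors.isTorsion_push (chart 0 B) F hF)
      (fun x hx => isClosed_fiber ξ 0 x (hpush x hx)) q (by omega)
  · intro p q' hpq
    have hG : EtCoh.IsTorsion ((EtCoh.Rpush (chart 0 B) (q' + 1)).obj F) :=
      Groth.Agent.S0125.result (chart 0 B) F hF (q' + 1)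
    have hsupp : ∀ x : (pullback (toB B) ξ : Scheme.{u}),
        pullback.fst (toB B) ξ x ∈ EtPBC.supp ((EtCoh.Rpush (chart 0 B) (q' + 1)).obj F) →
        pullback.fst (toB B) ξ x ∉ Set.range (chart 0 B) := fun x hx hx' =>
      not_mem_supp_Rpush_of_open (chart 0 B) F q' _ hx' hx
    rcases Nat.eq_zero_or_pos p with rfl | hp
    · refine Fibre.H_subsingleton_of_fiber (toB B) ξ hξ _ hG 0
        (CdEtLeray.H_subsingleton_of_isZero (isZero_of_forall _ fun x hx => ?_) 0)
      rw [supp_pull] at hx
      have h2 := hsupp x hx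
      obtain ⟨w, hw, -⟩ := mem_range_other 0 B _ h2
      rw [Set.mem_preimage, ← hw] at hx
      rw [mem_supp_Rpush_iff_of_isPullback (chart (0 + 1) B) (chart 0 B)
        (pullback.fst (chart 0 B) (chart (0 + 1) B)) (pullback.snd (chart 0 B) (chart (0 + 1) B))
        (IsPullback.of_hasPullback _ _) F (q' + 1) w] at hx
      refine not_mem_supp_open A hA (pullback.snd (chart 0 B) (chart (0 + 1) B)) ?_ _
        (Etcore.Torsion.isTorsion_pull _ F hF) D ?_ w (q' + 1) (by omega) hx
      · intro v
        rw [Scheme.Pullback.range_snd, Set.mem_preimage, chart_mem_range_iff]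
      · intro u hu
        rw [supp_pull] at hu
        have h3 := hδ _ hu
        rw [← ptLE_comp_iff _ (pullback.fst (chart 0 B) (chart (0 + 1) B)) u
          (algAt_of_surjectiveOnStalks _ u)] at h3
        have h4 : pullback.fst (chart 0 B) (chart (0 + 1) B) ≫ pr B =
            pullback.snd (chart 0 B) (chart (0 + 1) B) ≫ pr B := by
          rw [← chart_toB 0 B, ← Category.assoc, pullback.condition, Category.assoc, chart_toB,
            chart_toB]
        have h5 : PtLE (A := A) (pullback.fst (chart 0 B) (chart (0 + 1) B) ≫ pr B) u D := h3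
        rw [h4] at h5
        exact h5
    · exact Fibre.H_subsingleton_of_supp (toB B) ξ hξ _ hG
        (fun x hx => isClosed_fiber ξ 0 x (hsupp x hx)) p hp

/-- **The affine line.** -/
theorem line (A : Type u) [CommRing A] [HenselianLocalRing A] [IsSepClosed (ResidueField A)] [Algebra ℚ A]
    (hA : EGA4.IsExcellent A) (F : EtCoh.Ab (Spec (CommRingCat.of (Polynomial A)))) (hF : EtCoh.IsTorsion F)
    (D : ℕ)
    (hδ : ∀ v ∈ EtPBC.supp F, PtLE (Spec.map (CommRingCat.ofHom (Polynomial.C : A →+* Polynomial A))) v D)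
    (q : ℕ) (hq : D < q) : Subsingleton (EtCoh.H _ F q) := by
  let i : Spec (CommRingCat.of (Polynomial (ResidueField A))) ⟶ Spec (CommRingCat.of (Polynomial A)) :=
    Spec.map (CommRingCat.ofHom (Polynomial.mapRingHom (residue A)))
  have hi : IsClosedImmersion i := IsClosedImmersion.spec_of_surjective _
    (Polynomial.map_surjective (residue A) residue_surjective)
  let η : F ⟶ (EtCoh.push i).obj ((EtCoh.pull i).obj F) := ClosedRes.η i F
  have hη : Epi η := ClosedEpi.epi_unit i F
  let S : ShortComplex (EtCoh.Ab (Spec (CommRingCat.of (Polynomial A)))) :=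
    ShortComplex.mk (kernel.ι η) η (kernel.condition _)
  have hS : S.ShortExact :=
    { exact := ShortComplex.exact_of_f_is_kernel _ (kernelIsKernel η)
      mono_f := inferInstanceAs (Mono (kernel.ι η))
      epi_g := hη }
  have hK : EtCoh.IsTorsion (kernel η) := Etrest.TorsEt.isTorsion_of_mono (kernel.ι η) hF
  have hsub : EtPBC.supp (kernel η) ⊆ EtPBC.supp F := CurvesA.GenSupp.supp_subset_of_mono (kernel.ι η)
  refine CdLeray.ext_mid hS _ q ?_ ?_
  · refine generic A hA (kernel η) hK D (fun v hv => hδ v (hsub hv)) ?_ q hq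
    intro v hv hvc
    -- `v` lies in the special fibre
    have hr : v ∈ Set.range i := by
      have h1 : Set.range i = PrimeSpectrum.zeroLocus
          (RingHom.ker (Polynomial.mapRingHom (residue A)) : Set (Polynomial A)) :=
        range_comap_of_surjective _ _ (Polynomial.map_surjective (residue A) residue_surjective)
      rw [h1]
      change (RingHom.ker (Polynomial.mapRingHom (residue A)) : Set (Polynomial A)) ⊆
        (PrimeSpectrum.asIdeal (R := Polynomial A) v : Set (Polynomial A))
      have h2 : RingHom.ker (Polynomial.mapRingHom (residue A)) =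
          (maximalIdeal A).map (Polynomial.C : A →+* Polynomial A) := by
        rw [Polynomial.ker_mapRingHom, ker_residue]
      rw [h2, SetLike.coe_subset_coe, Ideal.map_le_iff_le_comap]
      exact (congrArg (PrimeSpectrum.asIdeal (R := A)) hvc).ge
    obtain ⟨z, rfl⟩ := hr
    exact not_mem_supp_kernel_unit i F z hv
  · exact SuppClosed.H_push_subsingleton i _ q (by omega) (special A F hF D hδ q hq)

end K584.Line
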