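import Groth.Agent.Sga2lef.H88.LocDualAbs

/-!
# Local duality at a point, abstract form with a bound for the dual of the point

`main`: `F`, `S` reflexive, `S` injective, `H^q (D S) = 0` unless `0 ≤ q ≤ N`, and `Ext^i(H^q (D S), F) = 0` for `i < n`.
Then `Hom(H^b (D F), S) = 0` for `b > N - n`.
-/

set_option autoImplicit false
set_option backward.defeqAttrib.useBackward true
set_option backward.isDefEq.respectTransparency false

universe w w' v u

open CategoryTheory CategoryTheory.Limits Pretriangulated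

namespace K584.LocAbs

open DerivedCategory Groth.Agent.Sga4h.Refl Groth.Agent.Sga4h Groth.Agent.Sga4h.BidGlobU
  Groth.Agent.Sga2lef.H88.LocDualAbs

variable {C : Type u} [Category.{v} C] [Abelian C] [HasDerivedCategory.{w} C] {T : C ⥤ C ⥤ C} [T.Additive]
  [∀ X, (T.obj X).Additive]
  [∀ (K₁ K₂ : CochainComplex C ℤ), CochainComplex.HasMapBifunctor K₁ K₂ T]
  [∀ E : CochainComplex C ℤ, (T.map₂CochainComplex.flip.obj E).IsLeftAdjoint]
  [∀ (J : Type), HasColimitsOfShape (Discrete J) C]
  [∀ (J : Type), (colim : (Discrete J ⥤ C) ⥤ C).PreservesMonomorphisms]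
  (A : DualData T)

/-- `H^q (D (S[-b])) ≅ H^(q + b) (D S)`. -/
theorem nonempty_homology_shift (S : C) (b q : ℤ) :
    Nonempty ((homologyFunctor C q).obj (Q.obj (A.D ((HomologicalComplex.single C (ComplexShape.up ℤ) b).obj S))) ≅
      (A.D ((CochainComplex.singleFunctor C 0).obj S)).homology (q + b)) := by
  let K := (CochainComplex.singleFunctor C 0).obj S
  obtain ⟨e1⟩ := nonempty_shiftIso A K (-b)
  let e2 : (HomologicalComplex.single C (ComplexShape.up ℤ) b).obj S ≅ K⟦-b⟧ :=
    (((CochainComplex.singleFunctors C).shiftIso (-b) b 0 (by lia)).app S).symm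
  have h1 : QuasiIso (A.Dmap e2.hom) := A.quasiIso_Dmap _
  have e3 : Q.obj (A.D (K⟦-b⟧)) ≅ Q.obj (A.D ((HomologicalComplex.single C (ComplexShape.up ℤ) b).obj S)) :=
    @asIso _ _ _ _ _ ((isIso_Q_map_iff_quasiIso C (A.Dmap e2.hom)).2 h1)
  have e4 := ((homologyFunctor C 0).shiftIso (-b) (q + b) q (by lia)).app
    (Q.obj (A.D ((HomologicalComplex.single C (ComplexShape.up ℤ) b).obj S)))
  exact ⟨e4.symm ≪≫ (homologyFunctor C (q + b)).mapIso
    ((CategoryTheory.shiftFunctor _ (-b)).mapIso e3.symm ≪≫ e1.symm) ≪≫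
      (homologyFunctorFactors C (q + b)).app _⟩

/-- **Local duality, abstract form.** -/
theorem main [HasExt.{w'} C] {F S : C} [Injective S]
    (hF : A.Refl ((CochainComplex.singleFunctor C 0).obj F)) (b : ℤ)
    (hS : A.Refl ((HomologicalComplex.single C (ComplexShape.up ℤ) b).obj S)) (N : ℤ)
    (hlo : ∀ q : ℤ, q < 0 → IsZero ((A.D ((CochainComplex.singleFunctor C 0).obj S)).homology q))
    (hhi : ∀ q : ℤ, N < q → IsZero ((A.D ((CochainComplex.singleFunctor C 0).obj S)).homology q)) (n : ℕ)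
    (hExt : ∀ (q : ℤ) (i : ℕ), i < n → ∀ e : Abelian.Ext.{w'}
      ((A.D ((CochainComplex.singleFunctor C 0).obj S)).homology q) F i, e = 0)
    (hb : N - b < n)
    (f : (A.D ((CochainComplex.singleFunctor C 0).obj F)).homology b ⟶ S) : f = 0 := by
  refine eq_zero_of_injective _ b (fun ψ => ?_) f
  refine eq_zero_of_refl A hF hS (fun φ => ?_) ψ
  let S' := (HomologicalComplex.single C (ComplexShape.up ℤ) b).obj S
  have h5 : (Q.obj (A.D S')).IsGE (-b) := by
    rw [isGE_iff]
    intro q hq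
    obtain ⟨e⟩ := nonempty_homology_shift A S b q
    exact (hlo (q + b) (by lia)).of_iso e
  have h6 : (Q.obj (A.D S')).IsLE (N - b) := by
    rw [isLE_iff]
    intro q hq
    obtain ⟨e⟩ := nonempty_homology_shift A S b q
    exact (hhi (q + b) (by lia)).of_iso e
  have e0 : Q.obj ((CochainComplex.singleFunctor C 0).obj F) ≅ (singleFunctor C 0).obj F :=
    ((singleFunctorIsoCompQ C 0).app F).symm
  rw [← cancel_mono e0.hom, zero_comp]
  refine eq_zero_of_ext n (Q.obj (A.D S')) (-b) (N - b) hb (fun i hi e => ?_) _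
  obtain ⟨e1⟩ := nonempty_homology_shift A S b i
  have h7 : (Abelian.Ext.mk₀ e1.inv).comp e (zero_add i) = 0 := hExt _ i hi _
  have h8 : (Abelian.Ext.mk₀ e1.hom).comp ((Abelian.Ext.mk₀ e1.inv).comp e (zero_add i)) (zero_add i) = e := by
    rw [Abelian.Ext.mk₀_comp_mk₀_assoc, Iso.hom_inv_id, Abelian.Ext.mk₀_id_comp]
  rw [← h8, h7, Abelian.Ext.comp_zero]

end K584.LocAbs
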