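import Groth.Agent.EtDepth.K584.DAbs
import Groth.Agent.Sga2lef.H253.StkSupp
import Groth.Agent.Sga4h.BidLoc48

/-!
# Transfer of the vanishing of the stalks of the cohomology of the dual

* `isZero_stk_of_pull`: the stalk at `g y` of `M` vanishes if `g⁻¹ M = 0`;
* `isZero_stk_D`: if `A`, `A'` satisfy `Loc` along `g`, the stalk of `H^q (D F)` at `g y` vanishes if `H^q (D g⁻¹ F)`
  vanishes at `y`.
-/

set_option autoImplicit false
universe v v' u u' u₁ u₂

open CategoryTheory CategoryTheory.Limits AlgebraicGeometry Opposite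

attribute [local instance 5000] CategoryTheory.Abelian.toPreadditive
  CategoryTheory.Preadditive.preadditiveHasZeroMorphisms

namespace K584.PtTools

open Groth.Agent Groth.Agent.Sga4h Groth.Agent.Sga4h.Refl DerivedCategory

section Abs

variable {C : Type u₁} [Category.{v} C] [Abelian C] {C' : Type u₂} [Category.{v'} C'] [Abelian C']
  {T' : C' ⥤ C' ⥤ C'} [T'.Additive] [∀ X, (T'.obj X).Additive]
  [∀ (K₁ K₂ : CochainComplex C' ℤ), CochainComplex.HasMapBifunctor K₁ K₂ T']
  [∀ E : CochainComplex C' ℤ, (T'.map₂CochainComplex.flip.obj E).IsLeftAdjoint]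
  (A' : DualData T')

theorem nonempty_map_single (G : C ⥤ C') [G.Additive] (R : CochainComplex C ℤ ⥤ CochainComplex C' ℤ)
    (hR : R = G.mapHomologicalComplex (ComplexShape.up ℤ)) (F : C) (q : ℤ) :
    Nonempty ((A'.D (R.obj ((CochainComplex.singleFunctor C 0).obj F))).homology q ≅
      (A'.D ((CochainComplex.singleFunctor C' 0).obj (G.obj F))).homology q) := by
  subst hR
  let e : (G.mapHomologicalComplex (ComplexShape.up ℤ)).obj ((CochainComplex.singleFunctor C 0).obj F) ≅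
      (CochainComplex.singleFunctor C' 0).obj (G.obj F) :=
    (HomologicalComplex.singleMapHomologicalComplex G (ComplexShape.up ℤ) 0).app F
  let e' : A'.D ((CochainComplex.singleFunctor C' 0).obj (G.obj F)) ≅
      A'.D ((G.mapHomologicalComplex (ComplexShape.up ℤ)).obj ((CochainComplex.singleFunctor C 0).obj F)) :=
    A'.F.mapIso e.op
  exact ⟨(HomologicalComplex.homologyFunctor C' _ q).mapIso e'.symm⟩

end Abs

attribute [local instance] HasDerivedCategory.standard
open scoped Groth.Agent.Sga4h.ModInst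
open Groth.Agent.Sga4h.BidIndLoc48 Groth.Agent.Sga4h.BidLoc48 Groth.Agent.Sga4h.EtPts Groth.Agent.Etrest.ModAb

variable {Λ : Type (u + 1)} [CommRing Λ] {X Y Z : Scheme.{u}}

theorem isZero_stk_of_pull (g : Y ⟶ X) (y : Y) (x : X) (hy : g y = x) (M : EtModW.Mod Λ X)
    (h : IsZero ((EtModW.pull Λ g).obj M)) : IsZero ((stk Λ x).obj M) := by
  by_contra h1
  rw [← Groth.Agent.Sga2lef.H253.StkSupp.mem_supp_ab_iff, ← hy] at h1
  have h2 : y ∈ EtPBC.supp ((EtCoh.pull g).obj ((ab Λ X).obj M)) := by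
    rw [Groth.Agent.EtpbcA.Artin.supp_pull]
    exact h1
  refine Groth.Agent.EtpbcA.Artin.supp_eq_empty_of_isZero ?_ y h2
  exact ((ab Λ Y).map_isZero h).of_iso ((pullIso Λ g).app M).symm

/-- The stalk of a pullback. -/
theorem isZero_stk_pull_iff (g : Y ⟶ X) (y : Y) (M : EtModW.Mod Λ X) :
    IsZero ((stk Λ y).obj ((EtModW.pull Λ g).obj M)) ↔ IsZero ((stk Λ (g y)).obj M) := by
  rw [← not_iff_not, ← Groth.Agent.Sga2lef.H253.StkSupp.mem_supp_ab_iff,
    ← Groth.Agent.Sga2lef.H253.StkSupp.mem_supp_ab_iff]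
  have h1 : EtPBC.supp ((ab Λ Y).obj ((EtModW.pull Λ g).obj M)) =
      EtPBC.supp ((EtCoh.pull g).obj ((ab Λ X).obj M)) :=
    Groth.Agent.EtpbcA.Artin.supp_congr ((pullIso Λ g).app M)
  rw [h1, Groth.Agent.EtpbcA.Artin.supp_pull]
  rfl

/-- A sheaf whose stalks vanish is zero. -/
theorem isZero_of_stk (M : EtModW.Mod Λ X) (h : ∀ x : X, IsZero ((stk Λ x).obj M)) : IsZero M := by
  have h1 : IsZero ((ab Λ X).obj M) := Groth.Agent.EtpbcA.Artin.isZero_of_forall _ fun x hx => by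
    rw [Groth.Agent.Sga2lef.H253.StkSupp.mem_supp_ab_iff] at hx
    exact hx (h x)
  rw [IsZero.iff_id_eq_zero] at h1 ⊢
  exact (ab Λ X).map_injective (by rw [Functor.map_zero, CategoryTheory.Functor.map_id]; exact h1)

/-- **Transfer along a hull.** -/
theorem isZero_stk_D {A : DualData (EtModD.tensorBi Λ X)} {A' : DualData (EtModD.tensorBi Λ Y)} {g : Y ⟶ X}
    (c : Loc A A' g) (F : EtModW.Mod Λ X)
    (hF : EtModD.IsDbc (Q.obj ((CochainComplex.singleFunctor (EtModW.Mod Λ X) 0).obj F)))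
    (ξ : Z ⟶ Y) (z : Z) (x : X) (hx : g (ξ z) = x) (q : ℤ)
    (h : IsZero ((EtModW.pull Λ ξ).obj ((A'.D ((CochainComplex.singleFunctor (EtModW.Mod Λ Y) 0).obj
      ((EtModW.pull Λ g).obj F))).homology q))) :
    IsZero ((stk Λ x).obj ((A.D ((CochainComplex.singleFunctor (EtModW.Mod Λ X) 0).obj F)).homology q)) := by
  subst hx
  rw [← isZero_stk_pull_iff]
  obtain ⟨e⟩ := c.iso _ hF q
  obtain ⟨e2⟩ := nonempty_map_single A' (EtModW.pull Λ g) (R g) rfl F q
  refine IsZero.of_iso ?_ ((stk Λ (ξ z)).mapIso (e ≪≫ e2))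
  exact isZero_stk_of_pull ξ z _ rfl _ h

end K584.PtTools
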