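import Groth.Agent.EtDepth.K584.PtSP
import Groth.Agent.EtDepth.K584.PtTools
import Groth.Agent.EtDepth.K584.Hulls
import Groth.Agent.EtDepth.K584.EtArt

/-!
# The pointwise bound for the cohomology of the dual

`X` smooth over `Spec K[[x_1, …, x_M]]`, `x : X` with `dim O_x = c`, biduality on `Spec K'[[x_1, …, x_c]]`: the stalk of
`H^b (D F)` at `x` vanishes for `b > 2c - k` if the étale depth of the constructible sheaf `F` at `x` is at least `k`.
-/

set_option autoImplicit false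
universe u

open CategoryTheory CategoryTheory.Limits AlgebraicGeometry Opposite IsLocalRing

attribute [local instance 5000] CategoryTheory.Abelian.toPreadditive
  CategoryTheory.Preadditive.preadditiveHasZeroMorphisms

namespace K584.PtBd

attribute [local instance] HasDerivedCategory.standard
attribute [-instance] ULift.ring
open scoped Groth.Agent.Sga4h.ModInst
open Groth.Agent Groth.Agent.Sga4h Groth.Agent.Sga4h.Refl DerivedCategory
open Groth.Agent.Sga4h.BidIndLoc48 Groth.Agent.Sga4h.BidRed538Main Groth.Agent.EtDual.K336.StrictS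
open Groth.Agent.Etdl.H434.Defs Groth.Agent.Etrest.ModAb K973.Stmt K973.BidStmt

/-- `Loc` from universal base change. -/
theorem loc_of_ubc {X Y : Scheme.{u}} (hN : IsNoetherian X) (qX : X ⟶ Spec (CommRingCat.of (ULift.{u} ℚ)))
    (g : Y ⟶ X) {m : ℕ} (hm : 0 < m)
    (hU : Groth.Agent.EtpbcB.BCU.UBC (Spec (CommRingCat.of (ULift.{u} ℚ))) g) :
    BidLoc48.Loc (stdDual (Lam.{u} m) X) (stdDual (Lam.{u} m) Y) g := by
  have hΛ : IsNoetherianRing (Lam.{u} m) := Hulls.isNoetherianRing_lam m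
  refine K973.RegCmp.loc_of_bcMor (n := m) (S := Spec (CommRingCat.of (ULift.{u} ℚ))) _ hN ?_ ?_ hU.bcMor
  · have h0 : IsUnit ((m : ℕ) : ULift.{u} ℚ) := by
      have h1 : ((m : ℕ) : ℚ) ≠ 0 := Nat.cast_ne_zero.2 hm.ne'
      have h2 := (isUnit_iff_ne_zero.2 h1).map (ULift.ringEquiv (R := ℚ)).symm
      rwa [map_natCast] at h2
    have h1 := h0.map (Scheme.ΓSpecIso (CommRingCat.of (ULift.{u} ℚ))).inv.hom
    rwa [map_natCast] at h1
  · exact congrArg ULift.up (ZMod.natCast_self m)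

/-- Transfer along a hull, general coefficients. -/
theorem isZero_stk_gen {Λ : Type (u + 1)} [CommRing Λ] [IsNoetherianRing Λ] {X Y Z : Scheme.{u}} {g : Y ⟶ X}
    (hl : BidLoc48.Loc (stdDual Λ X) (stdDual Λ Y) g) (F : EtModW.Mod Λ X) (hF : EtModW.IsConstructible Λ F)
    (ξ : Z ⟶ Y) (z : Z) (x : X) (hx : g (ξ z) = x) (q : ℤ)
    (h : PtSP.VanPull Λ ξ ((EtModW.pull Λ g).obj F) q) :
    IsZero ((EtPts.stk Λ x).obj (((stdDual Λ X).D ((CochainComplex.singleFunctor _ 0).obj F)).homology q)) :=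
  PtTools.isZero_stk_D hl F (EtDual.K336.GenD.isDbc_single F hF) ξ z x hx q h.out

/-- **The pointwise bound.** -/
theorem main {M : ℕ} {K : Type u} [Field K] [CharZero K] {X : Scheme.{u}} (f : X ⟶ SP M K)
    [Smooth f] [QuasiCompact f] {m : ℕ} (hm : 0 < m) (x : X) (c : ℕ) (hc : ringKrullDim (X.presheaf.stalk x) = c)
    (hB : BidSP.{u} m c) (F : EtModW.Mod (Lam.{u} m) X) (hF : EtModW.IsConstructible (Lam.{u} m) F) (k : ℕ)
    (hk : EtDepth.DepthAtGE X ((ab (Lam.{u} m) X).obj F) x k) (b : ℤ) (hb : 2 * (c : ℤ) - b < k) :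
    IsZero ((EtPts.stk (Lam.{u} m) x).obj
      (((stdDual (Lam.{u} m) X).D ((CochainComplex.singleFunctor _ 0).obj F)).homology b)) := by
  have hm0 : NeZero m := ⟨hm.ne'⟩
  obtain ⟨hN, ⟨qX⟩, hexc, hreg⟩ := Hulls.exists_facts f
  have := hreg x
  obtain ⟨K', _, _, _, A, _, _, σ, β, hNA, hσ, hσx, hβ, hβl, hmax, hg, hU⟩ := Hulls.exists_hull qX x (hexc x) c hc
  have hl := loc_of_ubc hN qX _ hm (hU qX)
  have hlam : ((m : ℕ) : Lam.{u} m) = 0 := congrArg ULift.up (ZMod.natCast_self m)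
  have htor : EtCoh.IsTorsion ((ab (Lam.{u} m) X).obj F) :=
    EtArt.isTorsion_of_killedBy hm (K973.RegCmp.killedBy_ab hlam F)
  have hz : PtSP.VanPull (Lam.{u} m) (ip (MvPowerSeries (Fin c) K'))
      ((EtModW.pull (Lam.{u} m) (Spec.map (CommRingCat.ofHom β) ≫ σ)).obj F) b :=
    PtSP.vanPull m c K' (hB K') ((EtModW.pull (Lam.{u} m) (Spec.map (CommRingCat.ofHom β) ≫ σ)).obj F)
      (Etcore.LCrit.isConstructible_pull _ F hF) k (fun i hi =>
        (DepthHull.isZero_locCoh qX hσ x hσx β hβ hmax _ htor k hk i hi).of_iso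
          ((EtDual.locCoh _ i).mapIso ((pullIso (Lam.{u} m) (Spec.map (CommRingCat.ofHom β) ≫ σ)).app F))) b hb
  have hΛ : IsNoetherianRing (Lam.{u} m) := Hulls.isNoetherianRing_lam m
  refine isZero_stk_gen hl F hF (ip (MvPowerSeries (Fin c) K')) default x ?_ b hz
  rw [ip_default]
  exact hg

end K584.PtBd
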