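import Groth.Agent.EtDual.K336.ExtPP
import Groth.Agent.EtDepth.K584.DepthHull

/-!
# `Ext^i(b_* Λ, M) = 0` from the vanishing of the local cohomology
-/

set_option autoImplicit false
universe u

open CategoryTheory CategoryTheory.Limits CategoryTheory.Abelian AlgebraicGeometry Opposite

namespace K584.PtExtP

open Groth.Agent Groth.Agent.Etrest.ModAb Groth.Agent.EtDual.K336

variable {Λ : Type (u + 1)} [CommRing Λ] {X U Z : Scheme.{u}}

theorem subsingleton_ext (j : U ⟶ X) [IsOpenImmersion j] [EtCoh.BCCont j] (b : Z ⟶ X) [IsClosedImmersion b]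
    (hr : Set.range j = (Set.range b)ᶜ) (P : EtModW.Mod Λ X) (e0 : Nonempty (ExtPP.P' Λ b ≅ P))
    (M : EtModW.Mod Λ X) (i : ℕ) (h : IsZero ((EtDual.HY j i).obj ((ab Λ X).obj M))) :
    Subsingleton (Ext.{u + 1} P M i) := by
  obtain ⟨e0⟩ := e0
  obtain ⟨e⟩ := ExtPP.nonempty_HY j b hr M i
  have h1 : Subsingleton ((EtDual.HY j i).obj ((ab Λ X).obj M) : Type (u + 1)) :=
    AddCommGrpCat.subsingleton_of_isZero h
  have h2 : Subsingleton (Ext.{u + 1} (ExtPP.P' Λ b) M i) := e.toEquiv.subsingleton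
  refine subsingleton_of_forall_eq 0 fun x => ?_
  have h3 : (Ext.mk₀ e0.hom).comp x (zero_add i) = 0 := Subsingleton.elim _ _
  have h4 : (Ext.mk₀ e0.inv).comp ((Ext.mk₀ e0.hom).comp x (zero_add i)) (zero_add i) = x := by
    rw [Ext.mk₀_comp_mk₀_assoc, Iso.inv_hom_id, Ext.mk₀_id_comp]
  rw [← h4, h3, Ext.comp_zero]

end K584.PtExtP
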