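import Groth.Agent.EtDepth.K584.Line
import Groth.Agent.S0073

/-!
# Artin vanishing over an excellent strictly henselian local ring of characteristic zero: the induction
-/

set_option autoImplicit false
universe u
open CategoryTheory CategoryTheory.Limits AlgebraicGeometry Opposite IsLocalRing TopologicalSpace

namespace K584.Step

open Groth.Agent Groth.Agent.EtpbcA Groth.Agent.EtpbcA.Artin Groth.Agent.EtpbcB
  K584.Del K584.Pt K584.Line Groth.Agent.Etbc.H215

/-- Artin vanishing for the scheme `X` over `Spec A`. -/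
def VanSch {A : Type u} [CommRing A] {X : Scheme.{u}} (f : X ⟶ Spec (CommRingCat.of A)) : Prop :=
  ∀ (F : EtCoh.Ab X), EtCoh.IsTorsion F → ∀ D : ℕ, (∀ v ∈ EtPBC.supp F, PtLE f v D) →
    ∀ q : ℕ, D < q → Subsingleton (EtCoh.H X F q)

/-- Transport along isomorphisms. -/
theorem VanSch.of_iso {A : Type u} [CommRing A] {X X' : Scheme.{u}} {f : X ⟶ Spec (CommRingCat.of A)}
    (e : X' ⟶ X) [IsIso e] (h : VanSch f) : VanSch (e ≫ f) := by
  intro F hF D hδ q hq
  refine (CdExact.H_push_iff_of_isZero e F (fun p => SuppClosed.isZero_Rpush e F p) q).1 ?_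
  refine h _ (RpushTors.isTorsion_push e F hF) D (fun v hv => ?_) q hq
  obtain ⟨w, rfl⟩ : v ∈ Set.range e := by
    rw [(inferInstance : Surjective e).surj.range_eq]
    trivial
  rw [mem_supp_push_iff e F w] at hv
  exact (ptLE_comp_iff f e w (algAt_of_surjectiveOnStalks e w) D).1 (hδ w hv)

theorem isPullback_C {B R : Type u} [CommRing B] [CommRing R] (φ : B →+* R) :
    IsPullback (Spec.map (CommRingCat.ofHom (Polynomial.mapRingHom φ)))
      (Spec.map (CommRingCat.ofHom (Polynomial.C : R →+* Polynomial R)))
      (Spec.map (CommRingCat.ofHom (Polynomial.C : B →+* Polynomial B)))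
      (Spec.map (CommRingCat.ofHom φ)) := by
  algebraize [φ, Polynomial.mapRingHom φ]
  exact (isPullback_SpecMap_of_isPushout _ _ _ _
    (CommRingCat.isPushout_of_isPushout B R (Polynomial B) (Polynomial R))).flip

/-- The support of the higher direct images along the affine line. -/
theorem claim (A : Type u) [CommRing A] [IsLocalRing A] [Algebra ℚ A] (hA : EGA4.IsExcellent A)
    {B : Type u} [CommRing B] (g : A →+* B) (hg : g.FiniteType)
    (F : EtCoh.Ab (Spec (CommRingCat.of (Polynomial B)))) (hF : EtCoh.IsTorsion F) (D : ℕ)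
    (hδ : ∀ v ∈ EtPBC.supp F,
      PtLE (Spec.map (CommRingCat.ofHom ((Polynomial.C : B →+* Polynomial B).comp g))) v D)
    (b : ℕ) (t : Spec (CommRingCat.of B))
    (ht : t ∈ EtPBC.supp ((EtCoh.Rpush (Spec.map (CommRingCat.ofHom
      (Polynomial.C : B →+* Polynomial B))) b).obj F)) :
    b ≤ D ∧ PtLE (Spec.map (CommRingCat.ofHom g)) t (D - b) := by
  have hAN : IsNoetherianRing A := hA.1
  let S : Type u := (Spec (CommRingCat.of B)).presheaf.stalk t
  obtain ⟨R, _, _, _, _, hSH⟩ := Groth.Agent.S0537.result S
  have hH : HenselianLocalRing R := Hensel.IsStrictHenselization.henselian (R := S)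
  have hsep : IsSepClosed (ResidueField R) :=
    (Hensel.IsStrictHenselization.isSepClosure (R := S) (S := R)).sep_closed
  have hR : EGA4.IsExcellent R := by
    let _ : Algebra A B := g.toAlgebra
    have : Algebra.FiniteType A B := hg
    exact isExcellent_sh hA t R
  let _ : Algebra B S := StructureSheaf.stalkAlgebra B t
  let φ : B →+* R := (algebraMap S R).comp (algebraMap B S)
  have hspec : Spec.map (CommRingCat.ofHom φ) = Hens2.specOf (Spec (CommRingCat.of B)) t R := by
    rw [CommRingCat.ofHom_comp, Spec.map_comp, Hens2.specOf, Spec.fromSpecStalk_eq']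
    rfl
  let _ : Algebra ℚ R := (φ.comp (g.comp (algebraMap ℚ A))).toAlgebra
  have sq := isPullback_C φ
  obtain ⟨e, he, H⟩ := exists_pt g hg t R
  have hwe0 : WeaklyEtale (Spec.map (CommRingCat.ofHom φ)) := by
    rw [hspec]
    exact Groth.Agent.S0754.result _ t R
  have hwe : WeaklyEtale (Spec.map (CommRingCat.ofHom (Polynomial.mapRingHom φ))) :=
    MorphismProperty.of_isPullback (P := @WeaklyEtale) sq.flip hwe0
  let a : Spec (CommRingCat.of (Polynomial R)) ⟶ Spec (CommRingCat.of (Polynomial B)) :=
    Spec.map (CommRingCat.ofHom (Polynomial.mapRingHom φ))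
  have hne : ¬ Subsingleton (EtCoh.H _ ((EtCoh.pull a).obj F) b) := by
    intro h
    rw [← PBCVan.van_iff sq F b, hspec, ← not_mem_supp_Rpush_iff _ F b t R] at h
    exact h ht
  have key : ∀ y ∈ EtPBC.supp ((EtCoh.pull a).obj F), e ≤ D ∧
      PtLE (Spec.map (CommRingCat.ofHom (Polynomial.C : R →+* Polynomial R))) y (D - e) := by
    intro y hy
    rw [supp_pull] at hy
    have h1 := hδ _ hy
    rw [← ptLE_comp_iff _ a y (algAt_of_weaklyEtale _ hwe y), CommRingCat.ofHom_comp, Spec.map_comp,
      ← Category.assoc, sq.w, Category.assoc, hspec] at h1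
    exact H _ _ y D h1
  have heD : e ≤ D := by
    by_contra h
    refine hne (CdEtLeray.H_subsingleton_of_isZero (isZero_of_forall _ fun y hy => h (key y hy).1) b)
  have hb : b ≤ D - e := by
    by_contra h
    exact hne (line R hR _ (Etcore.Torsion.isTorsion_pull a F hF) (D - e) (fun y hy => (key y hy).2) b
      (by omega))
  exact ⟨by omega, he.mono (by omega)⟩

/-- **The induction step.** -/
theorem step (A : Type u) [CommRing A] [IsLocalRing A] [Algebra ℚ A] (hA : EGA4.IsExcellent A)
    {B : Type u} [CommRing B] (g : A →+* B) (hg : g.FiniteType)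
    (h : VanSch (Spec.map (CommRingCat.ofHom g))) :
    VanSch (Spec.map (CommRingCat.ofHom ((Polynomial.C : B →+* Polynomial B).comp g))) := by
  intro F hF D hδ q hq
  let p : Spec (CommRingCat.of (Polynomial B)) ⟶ Spec (CommRingCat.of B) :=
    Spec.map (CommRingCat.ofHom (Polynomial.C : B →+* Polynomial B))
  refine CdEtLeray.H_subsingleton_of_leray p F q ?_ ?_
  · refine h _ (RpushTors.isTorsion_push p F hF) D (fun t ht => ?_) q hq
    have e1 : (EtCoh.Rpush p 0).obj F ≅ (EtCoh.push p).obj F := (EtCoh.push p).rightDerivedZeroIsoSelf.app F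
    rw [← supp_congr e1] at ht
    exact (claim A hA g hg F hF D hδ 0 t ht).2
  · intro a b hab
    by_cases hb : b + 1 ≤ D
    · exact h _ (Groth.Agent.S0125.result p F hF (b + 1)) (D - (b + 1))
        (fun t ht => (claim A hA g hg F hF D hδ (b + 1) t ht).2) a (by omega)
    · exact CdEtLeray.H_subsingleton_of_isZero
        (isZero_of_forall _ fun t ht => hb (claim A hA g hg F hF D hδ (b + 1) t ht).1) a

/-- The base. -/
theorem van_id (A : Type u) [CommRing A] [HenselianLocalRing A] [IsSepClosed (ResidueField A)] :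
    VanSch (Spec.map (CommRingCat.ofHom (RingHom.id A))) := by
  intro F _ D _ q hq
  exact Groth.Agent.S0073.result A F q (by omega)

theorem VanSch.of_ringEquiv {A B B' : Type u} [CommRing A] [CommRing B] [CommRing B'] {g : A →+* B}
    (e : B ≃+* B') (h : VanSch (Spec.map (CommRingCat.ofHom g))) :
    VanSch (Spec.map (CommRingCat.ofHom (e.toRingHom.comp g))) := by
  have h1 : IsIso (CommRingCat.ofHom e.toRingHom) := (RingEquiv.toCommRingCatIso e).isIso_hom
  have h2 := VanSch.of_iso (Spec.map (CommRingCat.ofHom e.toRingHom)) h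
  rw [← Spec.map_comp, ← CommRingCat.ofHom_comp] at h2
  exact h2

/-- **Artin vanishing for the affine spaces.** -/
theorem mvPolynomial (A : Type u) [CommRing A] [HenselianLocalRing A] [IsSepClosed (ResidueField A)]
    [Algebra ℚ A] (hA : EGA4.IsExcellent A) (N : ℕ) :
    VanSch (Spec.map (CommRingCat.ofHom (MvPolynomial.C : A →+* MvPolynomial (Fin N) A))) := by
  induction N with
  | zero =>
    have h := VanSch.of_ringEquiv (MvPolynomial.isEmptyRingEquiv A (Fin 0)).symm (van_id A)
    have h2 : (MvPolynomial.isEmptyRingEquiv A (Fin 0)).symm.toRingHom.comp (RingHom.id A) =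
        (MvPolynomial.C : A →+* MvPolynomial (Fin 0) A) := by
      ext a
      simp
    rw [h2] at h
    exact h
  | succ N ih =>
    have h0 := step A hA (MvPolynomial.C : A →+* MvPolynomial (Fin N) A)
      (RingHom.finiteType_algebraMap.2 (inferInstanceAs (Algebra.FiniteType A (MvPolynomial (Fin N) A)))) ih
    have h := VanSch.of_ringEquiv (MvPolynomial.finSuccEquiv A N).toRingEquiv.symm h0
    have h2 : (MvPolynomial.finSuccEquiv A N).toRingEquiv.symm.toRingHom.comp
        ((Polynomial.C : MvPolynomial (Fin N) A →+* Polynomial (MvPolynomial (Fin N) A)).comp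
          (MvPolynomial.C : A →+* MvPolynomial (Fin N) A)) =
        (MvPolynomial.C : A →+* MvPolynomial (Fin (N + 1)) A) := by
      ext1 a
      exact (MvPolynomial.finSuccEquiv A N).symm.commutes a
    rw [h2] at h
    exact h

end K584.Step
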