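import Groth.Agent.EtDepth.K584.PtBd

/-!
# NODE SUPP
-/

set_option autoImplicit false
universe u

open CategoryTheory CategoryTheory.Limits AlgebraicGeometry Opposite

namespace K584.Supp

section Congr

attribute [local instance 5000] CategoryTheory.Abelian.toPreadditive
  CategoryTheory.Preadditive.preadditiveHasZeroMorphisms
attribute [local instance] HasDerivedCategory.standard
open scoped Groth.Agent.Sga4h.ModInst
open Groth.Agent.Sga4h.BidRed538Main

/-- The vanishing of the stalk does not depend on the choice of the proof of the existence of a zero object. -/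
theorem isZero_congr {Λ : Type (u + 1)} [CommRing Λ] {X : Scheme.{u}} (v : X) (F : EtModW.Mod Λ X) (p : ℤ)
    (z z' : HasZeroObject (EtModW.Mod Λ X))
    (h : IsZero ((Groth.Agent.Sga4h.EtPts.stk Λ v).obj (((stdDual Λ X).D
      ((@CochainComplex.singleFunctor (EtModW.Mod Λ X) _ _ z 0).obj F)).homology p))) :
    IsZero ((Groth.Agent.Sga4h.EtPts.stk Λ v).obj (((stdDual Λ X).D
      ((@CochainComplex.singleFunctor (EtModW.Mod Λ X) _ _ z' 0).obj F)).homology p)) := by
  have hz : z = z' := rfl
  subst hz
  exact h

end Congr

/-- **NODE SUPP.** -/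
theorem main : K973.CoreStmt.NodeSupp.{u} := by
  intro m hm M K _ _ _ X f _ _ _ c hc hB
  refine ⟨fun F hF v q e he hq p hp => ?_⟩
  have hec : e ≤ c := by
    have h1 := hc v
    rw [he] at h1
    exact_mod_cast h1
  exact isZero_congr v F p _ _ (PtBd.main f hm v e he (hB e hec) F hF q hq p (by omega))

end K584.Supp
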