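import Groth.Agent.EtDl.K555.CdStrict
import Groth.Agent.Etdl.H435.ClaimB
import Groth.Agent.S2651

/-!
# Vanishing for sheaves with small support on `Spec R[1/x]`, `R` excellent strictly henselian over `ℚ`

`van_of_supp_dim`: `H^q(Spec R[1/x], G) = 0` for `q > e` if `dim (R / (y ∩ R)) ≤ e` for all `y` in the support of `G`.
-/

set_option autoImplicit false
universe u
open CategoryTheory CategoryTheory.Limits AlgebraicGeometry Opposite IsLocalRing TopologicalSpace

namespace K584.Van

open Groth.Agent Groth.Agent.EtpbcA Groth.Agent.EtpbcA.Artin Etdl.H435.FinLem Etdl.H435.Defs Etdl.H435.ClaimB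

/-- The cohomological dimension of `Spec S`, `S` a quotient of `R` localized at one element. -/
theorem cohDimLE_of_quotAway (R : Type u) [CommRing R] [HenselianLocalRing R] [IsSepClosed (ResidueField R)]
    [Algebra ℚ R] (hR : EGA4.IsExcellent R) (e : ℕ)
    (f : R) (S : Type u) [CommRing S] [Algebra R S] (h : QuotAway f S)
    (he : ringKrullDim (R ⧸ RingHom.ker (algebraMap R S)) ≤ e) :
    EtCoh.CohDimLE (Spec (CommRingCat.of S)) e := by
  set J := RingHom.ker (algebraMap R S) with hJdef
  by_cases hJ : J = ⊤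
  · have h1 : (1 : R) ∈ J := by rw [hJ]; trivial
    rw [hJdef, RingHom.mem_ker, map_one] at h1
    have : Subsingleton S := subsingleton_of_zero_eq_one h1.symm
    exact cohDimLE_of_subsingleton S e
  · have hE : EGA4.IsExcellent (R ⧸ J) := Groth.Agent.S2651.result R hR (R ⧸ J)
    have hH : HenselianLocalRing (R ⧸ J) := K555.CdExc.henselianLocalRing_quotient R J hJ
    have hsep : IsSepClosed (ResidueField (R ⧸ J)) := K555.CdExc.isSepClosed_residueField_quotient R J
    have hN : IsNoetherianRing (R ⧸ J) := hE.1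
    let _ : Algebra (R ⧸ J) S := (RingHom.kerLift (algebraMap R S)).toAlgebra
    have hloc : IsLocalization.Away (Ideal.Quotient.mk J f) S := isLocalization_of_quotAway h
    have h1 := K555.CdStrict.cohDimLE_away (R ⧸ J)
      ((Groth.Agent.CalgB.GRing2.isGRing_iff_of_isLocalRing (R ⧸ J)).1 hE.2.2.1) e he (Ideal.Quotient.mk J f)
    exact cohDimLE_of_ringEquiv (IsLocalization.algEquiv (Submonoid.powers (Ideal.Quotient.mk J f))
      (Localization.Away (Ideal.Quotient.mk J f)) S).toRingEquiv e h1

/-- Vanishing for sheaves with small support. -/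
theorem van_of_supp_dim (R : Type u) [CommRing R] [HenselianLocalRing R] [IsSepClosed (ResidueField R)]
    [Algebra ℚ R] (hR : EGA4.IsExcellent R) (x : R) (S : Type u) [CommRing S] [Algebra R S]
    [IsLocalization.Away x S] (e : ℕ)
    (G : EtCoh.Ab (Spec (CommRingCat.of S))) (hG : EtCoh.IsTorsion G)
    (hsupp : ∀ y ∈ EtPBC.supp G,
      ringKrullDim (R ⧸ (PrimeSpectrum.asIdeal (R := S) y).comap (algebraMap R S)) ≤ e)
    (q : ℕ) (hq : e < q) : Subsingleton (EtCoh.H _ G q) := by
  have hNR : IsNoetherianRing R := hR.1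
  have hSn : IsNoetherianRing S := IsLocalization.isNoetherianRing (Submonoid.powers x) S inferInstance
  have hn : IsLocallyNoetherian (Spec (CommRingCat.of S)) :=
    (isLocallyNoetherian_Spec (R := CommRingCat.of S)).2 hSn
  refine SuppFilt.van_of_supp_stable
    {y : Spec (CommRingCat.of S) |
      ringKrullDim (R ⧸ (PrimeSpectrum.asIdeal (R := S) y).comap (algebraMap R S)) ≤ e} q
    (S0099.result _ q (SuppFilt.Index _ _)) ?_ ?_ G hG hsupp
  · intro y z hyz hy
    have h1 : PrimeSpectrum.asIdeal (R := S) y ≤ PrimeSpectrum.asIdeal (R := S) z :=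
      (PrimeSpectrum.le_iff_specializes (R := S) y z).2 hyz
    exact (ringKrullDim_le_of_surjective
      (Ideal.Quotient.factor (Ideal.comap_mono h1)) (Ideal.Quotient.factor_surjective _)).trans hy
  · intro Z hZc hZE M hM hMZ
    let I : Ideal S := PrimeSpectrum.vanishingIdeal (R := S) Z
    have hI : PrimeSpectrum.zeroLocus (R := S) I = Z := by
      rw [PrimeSpectrum.zeroLocus_vanishingIdeal_eq_closure]
      exact hZc.closure_eq
    let i : Spec (CommRingCat.of (S ⧸ I)) ⟶ Spec (CommRingCat.of S) :=
      Spec.map (CommRingCat.ofHom (Ideal.Quotient.mk I))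
    have hi : IsClosedImmersion i := IsClosedImmersion.spec_of_surjective _ Ideal.Quotient.mk_surjective
    have hr : Set.range i = Z := by
      rw [← hI]
      have h2 := range_comap_of_surjective _ (Ideal.Quotient.mk I)
        Ideal.Quotient.mk_surjective
      rw [Ideal.mk_ker] at h2
      exact h2
    refine SuppClosed.van_of_supp_closed i M (by rw [hr]; exact hMZ) q (by omega) ?_
    have hqa : QuotAway x (S ⧸ I) := by
      have halg : ∀ r : R, algebraMap R (S ⧸ I) r = Ideal.Quotient.mk I (algebraMap R S r) :=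
        fun r => rfl
      refine ⟨?_, fun s => ?_⟩
      · rw [halg]
        exact (IsLocalization.Away.algebraMap_isUnit x).map _
      · obtain ⟨s, rfl⟩ := Ideal.Quotient.mk_surjective s
        obtain ⟨n, a, ha⟩ := IsLocalization.Away.surj x s
        refine ⟨n, a, ?_⟩
        rw [halg, halg, ← ha, map_mul, map_pow]
    refine cohDimLE_of_quotAway R hR e x (S ⧸ I) hqa ?_ _ (Etcore.Torsion.isTorsion_pull _ _ hM) q hq
    have hker : RingHom.ker (algebraMap R (S ⧸ I)) = I.comap (algebraMap R S) := by
      have h3 : algebraMap R (S ⧸ I) = (Ideal.Quotient.mk I).comp (algebraMap R S) := rfl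
      rw [h3, ← RingHom.comap_ker, Ideal.mk_ker]
    rw [hker]
    refine ringKrullDim_quotient_le_of_forall _ e fun p hp => ?_
    obtain ⟨p₀, hp₀, hle⟩ := Ideal.exists_minimalPrimes_le hp
    obtain ⟨Q, hQ, hIQ, hQp⟩ := Ideal.exists_comap_eq_of_mem_minimalPrimes (algebraMap R S) p₀ hp₀
    have h4 : (⟨Q, hQ⟩ : PrimeSpectrum S) ∈ Z := by
      rw [← hI]
      exact hIQ
    have h5 := hZE h4
    exact ⟨⟨Q.comap (algebraMap R S), Ideal.IsPrime.comap _⟩, hQp.le.trans hle, h5⟩

end K584.Van
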